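import Cfsg.Agent.S0948
import Cfsg.Agent.Cores.ThirdMain
import Cfsg.Agent.Cores.PrincipalLambda
import Cfsg.Agent.H5.RealPrincipal
import Cfsg.Agent.CharInduce.Twist
import Cfsg.Agent.BlockBasic.Local

/-!
# The principal 2-block of a group with a Klein four Sylow group and one class of involutions

Membership by the sum over the elements of odd order, invariance under automorphisms, and the
values at elements of even order.
-/

set_option autoImplicit false
set_option linter.unusedSectionVars false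
set_option linter.style.haveILetI false

namespace Cfsg.Agent.H15.WardE

open Subgroup Cfsg Cfsg.Agent Cfsg.Agent.CharBasic Cfsg.Agent.CharInduce
open scoped ComplexConjugate Classical

universe u

/-- Klein four Sylow 2-subgroups, one class of involutions. -/
structure KleinOne (L : Type u) [Group L] : Prop where
  klein : ∃ P : Sylow 2 L, IsKleinFour (P : Subgroup L)
  one : ∀ s t : L, orderOf s = 2 → orderOf t = 2 → IsConj s t

variable {L : Type u} [Group L]

theorem two_dvd_iff (n : ℕ) : ¬ 2 ∣ n ↔ Odd n := by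
  rw [Nat.odd_iff, Nat.dvd_iff_mod_eq_zero]; omega

/-- The sum over the elements of odd order. -/
noncomputable def oddSum [Fintype L] (f : L → ℂ) : ℂ := ∑ x : L with Odd (orderOf x), f x

variable [Fintype L]

theorem oddSum_add (f g : L → ℂ) : oddSum (f + g) = oddSum f + oddSum g := by
  simp [oddSum, Finset.sum_add_distrib]

theorem mem_principal_iff {M : Ideal AlgInt} (hM : IsPModular 2 M) (χ : IrrCharacter L) :
    χ ∈ principalBlock M L ↔ oddSum (χ : L → ℂ) ≠ 0 := by
  have : Fact (Nat.Prime 2) := ⟨Nat.prime_two⟩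
  rw [Cores.mem_principalBlock_iff_sum_regular hM, oddSum]
  refine iff_of_eq (congrArg (· ≠ 0) (Finset.sum_congr ?_ fun _ _ => rfl))
  ext x
  simp only [Finset.mem_filter, two_dvd_iff]

/-- The sum over the odd elements is invariant under automorphisms. -/
theorem oddSum_comp (α : L ≃* L) (f : L → ℂ) : oddSum (f ∘ α) = oddSum f :=
  Finset.sum_equiv α.toEquiv (fun x => by
    simp only [Finset.mem_filter, Finset.mem_univ, true_and, MulEquiv.toEquiv_eq_coe,
      MulEquiv.coe_toEquiv, MulEquiv.orderOf_eq]) fun x _ => rfl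

theorem oddSum_gal (σ : ℂ ≃+* ℂ) (χ : IrrCharacter L) :
    oddSum (fun x => σ ((χ : L → ℂ) x)) = oddSum (χ : L → ℂ) := by
  have h := H5.RealPrincipal.sum_regular_fixed 2 σ (IsIrr.isCharacter χ.2)
  have e : Finset.univ.filter (fun x : L => Odd (orderOf x)) =
      Finset.univ.filter fun x : L => ¬ 2 ∣ orderOf x := by
    ext x; simp only [Finset.mem_filter, two_dvd_iff]
  simp only [oddSum, e, ← map_sum]
  exact h

/-- A function vanishing at the elements of even order. -/
theorem oddSum_eq_inner {f : L → ℂ} (hf : ∀ x, ¬ Odd (orderOf x) → f x = 0) :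
    oddSum f = (Nat.card L : ℂ) * classInner f (fun _ => 1) := by
  rw [classInner_def, mul_inv_cancel_left₀ (card_ne_zero_complex L), oddSum, Finset.sum_filter]
  refine Finset.sum_congr rfl fun x _ => ?_
  split_ifs with h
  · simp
  · simp [hf x h]

namespace KleinOne

variable (hL : KleinOne L)
include hL

theorem pow_two_eq_one {a : L} {k : ℕ} (h : orderOf a = 2 ^ k) : a * a = 1 := by
  have : Fact (Nat.Prime 2) := ⟨Nat.prime_two⟩
  obtain ⟨P, hP⟩ := hL.klein
  obtain ⟨Q, hQ⟩ := (IsPGroup.of_card (p := 2) (n := k)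
    (G := Subgroup.zpowers a) (by rw [Nat.card_zpowers, h])).exists_le_sylow
  obtain ⟨g, hg⟩ := MulAction.exists_smul_eq L Q P
  have hmem : g * a * g⁻¹ ∈ (P : Subgroup L) := by
    rw [← hg]
    exact Subgroup.smul_mem_pointwise_smul _ (MulAut.conj g) _ (hQ (Subgroup.mem_zpowers _))
  haveI := hP
  have h2 : (g * a * g⁻¹) * (g * a * g⁻¹) = 1 :=
    congrArg Subtype.val (IsKleinFour.mul_self (⟨_, hmem⟩ : (P : Subgroup L)))
  rw [show g * a * g⁻¹ * (g * a * g⁻¹) = g * (a * a) * g⁻¹ by group] at h2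
  exact conj_eq_one_iff.1 h2

theorem not_four_dvd (x : L) : ¬ 4 ∣ orderOf x := by
  rintro ⟨m, hm⟩
  have hm0 : m ≠ 0 := fun e => (orderOf_pos x).ne' (by rw [hm, e])
  have h4 : orderOf (x ^ m) = 2 ^ 2 := by
    rw [orderOf_pow' _ hm0, hm, Nat.gcd_eq_right (dvd_mul_left m 4), Nat.mul_div_cancel _
      (Nat.pos_of_ne_zero hm0)]
    norm_num
  have h := orderOf_dvd_of_pow_eq_one (x := x ^ m) (n := 2) (by rw [pow_two]; exact hL.pow_two_eq_one h4)
  rw [h4] at h
  omega

/-- An element of even order is an involution times an odd element commuting with it. -/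
theorem exists_decomp {x : L} (hx : ¬ Odd (orderOf x)) :
    ∃ z k : L, orderOf z = 2 ∧ Odd (orderOf k) ∧ Commute z k ∧ x = z * k := by
  obtain ⟨d, hd⟩ := (Nat.not_odd_iff_even.1 hx).two_dvd
  have hodd : Odd d := Nat.not_even_iff_odd.1 fun ⟨c, hc⟩ =>
    hL.not_four_dvd x ⟨c, by rw [hd, hc]; ring⟩
  have hd0 : d ≠ 0 := hodd.pos.ne'
  refine ⟨x ^ d, x ^ (d + 1), ?_, ?_, Commute.pow_pow_self x _ _, ?_⟩
  · rw [orderOf_pow' _ hd0, hd, Nat.gcd_eq_right (dvd_mul_left d 2),
      Nat.mul_div_cancel _ (Nat.pos_of_ne_zero hd0)]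
  · refine Odd.of_dvd_nat hodd (orderOf_dvd_of_pow_eq_one ?_)
    obtain ⟨c, hc⟩ := hodd
    rw [← pow_mul, ← orderOf_dvd_iff_pow_eq_one, hd]
    exact ⟨c + 1, by rw [hc]; ring⟩
  · rw [← pow_add, show d + (d + 1) = orderOf x + 1 by omega, pow_succ, pow_orderOf_eq_one,
      one_mul]

/-- An element of even order is conjugate into the coset of `v`. -/
theorem exists_rep {v : L} (hv : orderOf v = 2) {x : L} (hx : ¬ Odd (orderOf x)) :
    ∃ g k : L, Odd (orderOf k) ∧ Commute v k ∧ x = g * (v * k) * g⁻¹ := by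
  obtain ⟨z, k, hz, hk, hzk, rfl⟩ := hL.exists_decomp hx
  obtain ⟨g, rfl⟩ := isConj_iff.1 (hL.one v z hv hz)
  refine ⟨g, g⁻¹ * k * g, ?_, ?_, by group⟩
  · rwa [show g⁻¹ * k * g = MulAut.conj g⁻¹ k by simp, MulEquiv.orderOf_eq]
  · have h := hzk.map (MulAut.conj g⁻¹).toMonoidHom
    simpa [mul_assoc] using h

/-- A class function is determined on the elements of even order by the coset of `v`. -/
theorem eq_zero_of_even {f : L → ℂ} (hf : IsClassFunction L f) {v : L} (hv : orderOf v = 2)
    (h : ∀ k, Odd (orderOf k) → Commute v k → f (v * k) = 0) {x : L} (hx : ¬ Odd (orderOf x)) :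
    f x = 0 := by
  obtain ⟨g, k, hk, hc, rfl⟩ := hL.exists_rep hv hx
  rw [hf (v * k) g]
  exact h k hk hc

/-- The principal block has at most four members. -/
theorem ncard_le {M : Ideal AlgInt} (hM : IsPModular 2 M) :
    (principalBlock M L).ncard ≤ 4 := by
  obtain ⟨P, hP⟩ := hL.klein
  obtain ⟨z2, z3, z4, -, -, -, -, -, -, -, hB, -⟩ := S0948.result M hM P hP hL.one
  rw [hB]
  refine le_trans (Set.ncard_le_ncard (t := {BlockBasic.trivialIrr, z2, z3, z4})
    (fun χ hχ => ?_) (Set.toFinite _)) ?_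
  · rcases hχ with h | h | h | h
    · exact Or.inl (Subtype.ext h)
    · exact Or.inr (Or.inl h)
    · exact Or.inr (Or.inr (Or.inl h))
    · exact Or.inr (Or.inr (Or.inr h))
  · exact (Set.ncard_insert_le _ _).trans (Nat.succ_le_succ ((Set.ncard_insert_le _ _).trans
      (Nat.succ_le_succ ((Set.ncard_insert_le _ _).trans (by rw [Set.ncard_singleton])))))

/-- The values of the principal block on the coset of an involution. -/
theorem apply_mul {M : Ideal AlgInt} (hM : IsPModular 2 M) {χ : IrrCharacter L}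
    (hχ : χ ∈ principalBlock M L) {z k : L} (hz : orderOf z = 2) (hk : Odd (orderOf k))
    (hzk : Commute z k) : (χ : L → ℂ) (z * k) = (χ : L → ℂ) z := by
  have : Fact (Nat.Prime 2) := ⟨Nat.prime_two⟩
  obtain ⟨P, hP⟩ := hL.klein
  obtain ⟨Q, hQ⟩ := (IsPGroup.of_card (p := 2) (n := 1)
    (G := Subgroup.zpowers z) (by rw [Nat.card_zpowers, hz]; norm_num)).exists_le_sylow
  have hKQ : IsKleinFour (Q : Subgroup L) := by
    haveI := hP
    let e := Q.equiv P
    exact ⟨by rw [Nat.card_congr e.toEquiv]; exact IsKleinFour.card_four,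
      by rw [Monoid.exponent_eq_of_mulEquiv e]; exact IsKleinFour.exponent_two⟩
  obtain ⟨S, N, hNn, hcomp⟩ := Cores.hasNormalPComplement_centralizer_involution Q hKQ hz
    (hQ (Subgroup.mem_zpowers z))
  haveI := hNn
  have hN : ¬ 2 ∣ Nat.card N := by
    rw [← hcomp.index_eq_card]
    exact S.not_dvd_index
  set kc : centralizer ({z} : Set L) := ⟨k, mem_centralizer_singleton_iff.2 hzk.eq.symm⟩
  have hkN : kc ∈ N := by
    have ho : Odd (orderOf kc) := by rwa [← Subgroup.orderOf_coe]
    have h2 : orderOf (kc : centralizer ({z} : Set L) ⧸ N) ∣ Nat.card S.toSubgroup := by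
      rw [← hcomp.symm.index_eq_card]
      exact orderOf_dvd_natCard _
    obtain ⟨j, hj⟩ := IsPGroup.iff_card.1 S.isPGroup'
    rw [hj] at h2
    have h3 := Nat.eq_one_of_dvd_coprimes ((Nat.coprime_two_right.2 ho).pow_right j)
      (orderOf_map_dvd (QuotientGroup.mk' N) kc) h2
    exact (QuotientGroup.eq_one_iff _).1 (orderOf_eq_one_iff.1 h3)
  exact Cores.principalBlock_apply_mul hM (e := 1) (by rw [hz, pow_one]) hχ N hN hkN

end KleinOne

end Cfsg.Agent.H15.WardE
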