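import Cfsg.Agent.H15.WardE.Lift

/-!
# The three functions `Φ₀`, `Φ±` of `E = E0 Φ` and their twists
-/

set_option autoImplicit false
set_option linter.unusedSectionVars false
set_option linter.style.haveILetI false

namespace Cfsg.Agent.H15.WardE

open Subgroup Cfsg Cfsg.Agent Cfsg.Agent.CharBasic Cfsg.Agent.CharInduce
open Cfsg.Agent.H84.Ward (VanEven TData)
open Cfsg.Agent.H84.Ward (tu)
open scoped ComplexConjugate Classical

universe u

variable {E : Type u} [Group E] [Fintype E] {F : Type} [Field F] [Fintype F] {D : EData E F}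
  [Fintype (Matrix.ProjectiveSpecialLinearGroup (Fin 2) F)] {c : Fin 4 → IrrCharacter E}

local notation "P2" => Matrix.ProjectiveSpecialLinearGroup (Fin 2) F

/-- `Φ₀ = 1 + St`, `Φ± = η± + St`. -/
def theta (c : Fin 4 → IrrCharacter E) (i : Fin 3) : E → ℂ :=
  (c i.castSucc : E → ℂ) + (c 3 : E → ℂ)

namespace ESide

variable (S : ESide D c)
include S

theorem theta_res (i : Fin 3) (x : P2) : theta c i (D.ι x) = D.tori.side.θ (.inl i) x := by
  obtain ⟨c0, h0, hres⟩ := S.res
  show (c i.castSucc : E → ℂ) (D.ι x) + (c 3 : E → ℂ) (D.ι x) = D.tori.prin i x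
  rw [hres, hres, h0.prin i, Pi.add_apply]

theorem apply_v (j : Fin 4) : (c j : E → ℂ) D.v = if j = 3 then -1 else 1 := by
  simpa using S.coset j 1 (by simp) (Commute.one_right _)

theorem deg3 : (c 3 : E → ℂ) 1 = (Fintype.card F : ℂ) := by
  obtain ⟨c0, h0, hres⟩ := S.res
  rw [← map_one D.ι, hres, h0.deg3]

theorem deg (j : Fin 4) (h0 : j ≠ 0) (h3 : j ≠ 3) :
    (c j : E → ℂ) 1 * 2 = (Fintype.card F : ℂ) - 1 := by
  obtain ⟨c0, hc0, hres⟩ := S.res
  rw [← map_one D.ι, hres, hc0.deg j h0 h3]

theorem theta_coset (i : Fin 3) {k : E} (hk : Odd (orderOf k)) (hc : Commute D.v k) :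
    theta c i (D.v * k) = 0 := by
  have h : i.castSucc ≠ (3 : Fin 4) := by fin_cases i <;> decide
  show (c i.castSucc : E → ℂ) _ + (c 3 : E → ℂ) _ = 0
  rw [S.coset _ k hk hc, S.coset _ k hk hc, if_neg h, if_pos rfl]
  norm_num

theorem isGen (i : Fin 3) : IsGeneralizedCharacter E (theta c i) :=
  CharInduce.IsGen.add (IsGen.of_char (IsIrr.isCharacter (c i.castSucc).2))
    (IsGen.of_char (IsIrr.isCharacter (c 3).2))

theorem vanEven (i : Fin 3) : VanEven (theta c i) where
  gen := S.isGen i
  even _ ha := D.kleinOne.eq_zero_of_even (CharInduce.IsGen.isClassFunction (S.isGen i)) D.orderOf_v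
    (fun _ hk hc => S.theta_coset i hk hc) ha

theorem classInner_c (i j : Fin 4) :
    classInner (c i : E → ℂ) (c j : E → ℂ) = if i = j then 1 else 0 := by
  rw [classInner_irrCharacter]
  exact if_congr S.inj.eq_iff rfl rfl

theorem gram (i j : Fin 3) : classInner (theta c i) (theta c j) = if i = j then 2 else 1 := by
  simp only [theta, classInner_add_left, classInner_add_right, S.classInner_c]
  fin_cases i <;> fin_cases j <;> simp <;> norm_num

theorem theta_inner_c (i : Fin 3) (j : Fin 4) : classInner (theta c i) (c j : E → ℂ) =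
    (if i.castSucc = j then 1 else 0) + if j = 3 then 1 else 0 := by
  simp only [theta, classInner_add_left, S.classInner_c, eq_comm (a := (3 : Fin 4))]

theorem inner_one (i : Fin 3) :
    classInner (theta c i) (fun _ => (1 : ℂ)) = if i = 0 then 1 else 0 := by
  rw [← S.one, S.theta_inner_c, if_neg (show ¬ ((0 : Fin 4) = 3) by decide), add_zero]
  exact if_congr (by fin_cases i <;> decide) rfl rfl

/-- The degree is read off the inner products with the three functions. -/
theorem degree_eq (j : Fin 4) : (c j : E → ℂ) 1 = classInner (theta c 0) (c j : E → ℂ) +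
    ((Fintype.card F : ℂ) - 1) / 2 *
      (classInner (theta c 1) (c j : E → ℂ) + classInner (theta c 2) (c j : E → ℂ)) := by
  simp only [S.theta_inner_c]
  fin_cases j
  · simp [S.one]
  · have h := S.deg 1 (by decide) (by decide)
    simp; linear_combination h / 2
  · have h := S.deg 2 (by decide) (by decide)
    simp; linear_combination h / 2
  · simp [S.deg3]; ring

theorem theta_one (i : Fin 3) : theta c i 1 = (D.tori.side.θ (.inl i) 1) := by
  rw [← S.theta_res, map_one]

/-- Twists of members of the block by different linear characters of `E / E0` are different. -/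
theorem twist_eq {l : E →* ℂˣ} (hl : ∀ x, l (D.ι x) = 1) {i j : Fin 4}
    (h : ∀ x, (c j : E → ℂ) x = (l x : ℂ) * (c i : E → ℂ) x) : l = 1 ∧ j = i := by
  obtain ⟨c0, h0, hres⟩ := S.res
  have hij : j = i := h0.inj (Subtype.ext (funext fun x => by
    rw [← hres j x, ← hres i x, h, hl, Units.val_one, one_mul]))
  subst hij
  refine ⟨MonoidHom.ext fun x => ?_, rfl⟩
  obtain ⟨a, ha, y, hy, rfl⟩ := D.exists_mul x
  have hy' : Odd (orderOf y) :=
    Odd.of_dvd_nat D.odd (Subgroup.orderOf_dvd_natCard _ hy)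
  have e := h (D.v * y)
  rw [S.coset j y hy' (D.comm_v y hy).symm, map_mul, show l D.v = 1 from hl _, one_mul] at e
  have h1 : (l y : ℂ) = 1 := by
    split_ifs at e with hj
    · linear_combination e
    · linear_combination -e
  rw [map_mul, show a = D.ι (D.e ⟨a, ha⟩) from (D.ι_e ⟨a, ha⟩).symm, hl, one_mul,
    MonoidHom.one_apply, Units.ext_iff, h1, Units.val_one]

theorem twist_inner {l : E →* ℂˣ} (hl : ∀ x, l (D.ι x) = 1) (hl1 : l ≠ 1) (i j : Fin 4) :
    classInner (c i : E → ℂ) (fun x => (l x : ℂ) * (c j : E → ℂ) x) = 0 :=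
  classInner_irr_of_ne (c i).2 (H1.isIrr_twist (c j).2 l) fun e =>
    hl1 (S.twist_eq hl fun x => congrFun e x).1

/-- Twisted functions are orthogonal. -/
theorem gram_twist {l : E →* ℂˣ} (hl : ∀ x, l (D.ι x) = 1) (hl1 : l ≠ 1) (i j : Fin 3) :
    classInner (theta c i) (fun x => (l x : ℂ) * theta c j x) = 0 := by
  rw [show (fun x => (l x : ℂ) * theta c j x) = (fun x => (l x : ℂ) * (c j.castSucc : E → ℂ) x) +
    fun x => (l x : ℂ) * (c 3 : E → ℂ) x from funext fun x => by simp [theta, mul_add]]
  simp only [theta, classInner_add_left, classInner_add_right, S.twist_inner hl hl1, add_zero]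

/-- Involution pairs only see `E0`. -/
theorem sum_pairs (i : Fin 3) :
    ∑ a : E, theta c i a * (Nat.card (TData.Pairs (tu, a)) : ℂ) =
      (D.tori.side.S (.inl i) : ℂ) := by
  haveI := D.normal
  rw [H84.Ward.sum_pairs (S.vanEven i), ← D.tori.side.hS (.inl i),
    H84.Ward.sum_pairs (D.tori.side.van (.inl i)), S.theta_one]
  congr 2
  rw [← Finset.sum_subset (s₁ := Finset.univ.map ⟨D.ι, D.ι_injective⟩) (Finset.subset_univ _)
    fun a _ ha => ?_, Finset.sum_map]
  · refine Finset.sum_congr rfl fun x _ => ?_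
    rw [Function.Embedding.coeFn_mk, S.theta_res]
    congr 2
    refine Nat.card_congr ?_
    exact
      { toFun := fun r => ⟨D.e ⟨r.1, D.mem_E0_of_sq r.2.1⟩, by
          constructor <;> refine D.ι_injective ?_ <;> simp only [map_mul, D.ι_e, map_one]
          exacts [r.2.1, r.2.2]⟩
        invFun := fun r => ⟨D.ι r.1, by
          constructor
          · rw [← map_mul, r.2.1, map_one]
          · rw [← map_mul, ← map_mul, r.2.2, map_one]⟩
        left_inv := fun r => Subtype.ext (D.ι_e _)
        right_inv := fun r => Subtype.ext (D.ι_injective (D.ι_e _)) }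
  · have : IsEmpty (TData.Inv2 a) := ⟨fun r => ha (Finset.mem_map.2 (by
      have h1 := D.mem_E0_of_sq r.2.1
      have h2 := D.mem_E0_of_sq r.2.2
      have h3 : a ∈ D.E0 := by simpa using mul_mem (inv_mem h1) h2
      exact ⟨D.e ⟨a, h3⟩, Finset.mem_univ _, D.ι_e _⟩))⟩
    rw [Nat.card_of_isEmpty, Nat.cast_zero, mul_zero]

end ESide

end Cfsg.Agent.H15.WardE
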