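import Cfsg.Agent.H1.CanonExt
import Cfsg.Agent.H5.RealPrincipal
import Cfsg.Agent.CycOne.Galois

/-!
# A rigidity lemma for extensions of the regular character of an abelian normal subgroup

Two characters which restrict to an abelian normal subgroup `N` as its regular character and are
fixed by an automorphism fixing the roots of unity of order `|N|` and inverting those of order
`|G/N|` (odd, abelian quotient) are equal.
-/

set_option autoImplicit false
set_option linter.unusedSectionVars false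
set_option linter.style.haveILetI false

namespace Cfsg.Agent.H15.WardE

open Subgroup Cfsg Cfsg.Agent Cfsg.Agent.CharBasic Cfsg.Agent.CharInduce
open scoped ComplexConjugate Classical

universe u

variable {G : Type u} [Group G] [Fintype G] (N : Subgroup G) [N.Normal] [Fintype N]

/-- Irreducible characters with overlapping restrictions differ by a linear character of the
abelian quotient. -/
theorem exists_twist_eq (hcomm : ∀ a b : G ⧸ N, a * b = b * a) {φ φ' : G → ℂ}
    (hφ : IsIrrCharacter G φ) (hφ' : IsIrrCharacter G φ')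
    (hne : classInner (fun n : N => φ n) (fun n : N => φ' n) ≠ 0) :
    ∃ l : G →* ℂˣ, (∀ n : N, l (n : G) = 1) ∧ φ = fun x => (l x : ℂ) * φ' x := by
  haveI : Fintype (G ⧸ N) := Fintype.ofFinite _
  let π := QuotientGroup.mk' N
  by_contra hcon
  push Not at hcon
  let F : G ⧸ N → ℂ := fun q => ∑ x ∈ Finset.univ.filter (fun x => π x = q), φ x * conj (φ' x)
  have hFc : IsClassFunction (G ⧸ N) F := fun q r => by rw [hcomm r q, mul_inv_cancel_right]
  have hF0 : F = 0 := eq_zero_of_classInner_eq_zero hFc fun lam => by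
    obtain ⟨L, hL⟩ := IsChar.exists_hom_of_degree_one (IsIrr.isCharacter lam.2)
      (commutative_iff_forall_linear.1 hcomm lam)
    have hz := classInner_irr_of_ne hφ (H1.isIrr_twist hφ' (L.comp π)) (hcon (L.comp π) fun n => by
      rw [MonoidHom.comp_apply, show π (n : G) = 1 from (QuotientGroup.eq_one_iff _).2 n.2, map_one])
    rw [classInner_def, mul_eq_zero] at hz
    rw [classInner_def, mul_eq_zero]
    refine Or.inr ?_
    rw [← hz.resolve_left (inv_ne_zero (card_ne_zero_complex G)),
      ← Finset.sum_fiberwise Finset.univ π fun x => φ x * conj (((L.comp π) x : ℂ) * φ' x)]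
    refine Finset.sum_congr rfl fun q _ => ?_
    rw [Finset.sum_mul]
    refine Finset.sum_congr rfl fun x hx => ?_
    rw [hL, map_mul, MonoidHom.comp_apply, (Finset.mem_filter.1 hx).2]
    ring
  refine hne ?_
  have h1 := congrFun hF0 1
  simp only [F, Pi.zero_apply] at h1
  rw [classInner_def]
  refine mul_eq_zero_of_right _ ?_
  rw [← h1]
  refine Finset.sum_bij (fun n _ => (n : G)) (fun n _ => ?_) (fun a _ b _ e => Subtype.ext e)
    (fun x hx => ⟨⟨x, (QuotientGroup.eq_one_iff x).1 (Finset.mem_filter.1 hx).2⟩, Finset.mem_univ _,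
      rfl⟩) (fun n _ => rfl)
  exact Finset.mem_filter.2 ⟨Finset.mem_univ _, (QuotientGroup.eq_one_iff _).2 n.2⟩

/-- The constituents of a character restricting to the regular character of `N`. -/
theorem coeff_unique (hN : ∀ a b : N, a * b = b * a) {χ : G → ℂ} (hχ : IsCharacter G χ)
    (hreg : ∀ n : N, n ≠ 1 → χ n = 0) (h1 : χ 1 = (Nat.card N : ℂ)) :
    ∀ ψ : IrrCharacter N, ∃ η : IrrCharacter G, classInner χ (η : G → ℂ) = 1 ∧
      classInner (fun n : N => (η : G → ℂ) n) (ψ : N → ℂ) ≠ 0 ∧
      ∀ η' : IrrCharacter G, classInner χ (η' : G → ℂ) ≠ 0 →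
        classInner (fun n : N => (η' : G → ℂ) n) (ψ : N → ℂ) ≠ 0 → η' = η := by
  intro ψ
  choose a ha using fun η : IrrCharacter G => classInner_isChar_nat hχ (IsIrr.isCharacter η.2)
  choose b hb using fun η : IrrCharacter G => classInner_isChar_nat
    (IsChar.res (IsIrr.isCharacter η.2) N) (IsIrr.isCharacter ψ.2)
  have hsum : classInner (fun n : N => χ n) (ψ : N → ℂ) = ((∑ η, a η * b η : ℕ) : ℂ) := by
    have e : (fun n : N => χ n) =
        ∑ η : IrrCharacter G, (a η : ℂ) • (fun n : N => (η : G → ℂ) n) := by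
      funext n
      conv_lhs => rw [classFunction_expansion (CharInduce.IsGen.isClassFunction (IsGen.of_char hχ))]
      simp [ha, Finset.sum_apply]
    rw [e, classInner_sum_left]
    push_cast
    refine Finset.sum_congr rfl fun η _ => ?_
    rw [classInner_smul_left]
    exact congrArg _ (hb η)
  have hone : classInner (fun n : N => χ n) (ψ : N → ℂ) = 1 := by
    rw [classInner_def, Finset.sum_eq_single (1 : N), OneMemClass.coe_one, h1,
      commutative_iff_forall_linear.1 hN ψ, map_one, mul_one,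
      inv_mul_cancel₀ (card_ne_zero_complex N)]
    · intro n _ hn; rw [hreg n hn, zero_mul]
    · exact fun h => absurd (Finset.mem_univ _) h
  have hnat : ∑ η, a η * b η = 1 := by exact_mod_cast hsum.symm.trans hone
  obtain ⟨η, hη⟩ : ∃ η, a η * b η ≠ 0 := by
    by_contra h
    push Not at h
    rw [Finset.sum_eq_zero fun η _ => h η] at hnat
    exact zero_ne_one hnat
  have hle := Finset.single_le_sum (f := fun η => a η * b η) (fun _ _ => Nat.zero_le _)
    (Finset.mem_univ η)
  rw [hnat] at hle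
  have h11 : a η = 1 ∧ b η = 1 :=
    ⟨Nat.eq_one_of_mul_eq_one_right (show a η * b η = 1 by omega),
      Nat.eq_one_of_mul_eq_one_left (show a η * b η = 1 by omega)⟩
  refine ⟨η, by rw [ha, h11.1]; simp, ?_, fun η' hχη' hψη' => ?_⟩
  · refine fun h => one_ne_zero (α := ℕ) ?_
    rw [← h11.2]
    exact_mod_cast (hb η).symm.trans h
  · by_contra hne
    have h2 := Finset.add_sum_erase Finset.univ (fun η => a η * b η) (Finset.mem_univ η)
    rw [hnat, h11.1, h11.2] at h2
    have h3 : ∑ x ∈ Finset.univ.erase η, a x * b x = 0 := by omega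
    rcases Nat.mul_eq_zero.1 (Finset.sum_eq_zero_iff.1 h3 η'
        (Finset.mem_erase.2 ⟨hne, Finset.mem_univ _⟩)) with h | h
    · exact hχη' (by rw [ha, h, Nat.cast_zero])
    · exact hψη' (by have e := hb η'; rw [h, Nat.cast_zero] at e; exact e)

theorem classInner_aut (σ : ℂ ≃+* ℂ) {φ : G → ℂ} {ψ : G → ℂ} (hψ : IsCharacter G ψ)
    (hψ' : IsCharacter G fun x => σ (ψ x)) :
    σ (classInner φ ψ) = classInner (fun x => σ (φ x)) (fun x => σ (ψ x)) := by
  simp only [classInner_def, map_mul, map_inv₀, map_natCast, map_sum]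
  refine congrArg _ (Finset.sum_congr rfl fun x _ => congrArg _ ?_)
  rw [← IsChar.inv_apply hψ x]
  exact IsChar.inv_apply hψ' x

/-- The rigidity lemma. -/
theorem eq_of_fixed (hN : ∀ a b : N, a * b = b * a) (hcomm : ∀ a b : G ⧸ N, a * b = b * a)
    (hodd : Odd (Nat.card (G ⧸ N))) {χ χ' : G → ℂ} (hχ : IsCharacter G χ) (hχ' : IsCharacter G χ')
    (hreg : ∀ n : N, n ≠ 1 → χ n = 0) (h1 : χ 1 = (Nat.card N : ℂ))
    (hreg' : ∀ n : N, n ≠ 1 → χ' n = 0) (h1' : χ' 1 = (Nat.card N : ℂ))
    (σ : ℂ ≃+* ℂ) (hσN : ∀ z : ℂ, z ^ Nat.card N = 1 → σ z = z)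
    (hσQ : ∀ z : ℂ, z ^ Nat.card (G ⧸ N) = 1 → σ z = z⁻¹)
    (hfix : ∀ x, σ (χ x) = χ x) (hfix' : ∀ x, σ (χ' x) = χ' x) : χ = χ' := by
  have hσres : ∀ (η : IrrCharacter G) (n : N), σ ((η : G → ℂ) n) = (η : G → ℂ) n := fun η n => by
    refine H43.aut_eq_on_value (H43.gen_of_char (IsIrr.isCharacter η.2)) (n : G) σ (RingEquiv.refl ℂ)
      fun z hz => hσN z ?_
    obtain ⟨k, hk⟩ := Subgroup.orderOf_dvd_natCard N n.2
    rw [hk, pow_mul, hz, one_pow]
  have key : ∀ {χ : G → ℂ}, IsCharacter G χ → (∀ n : N, n ≠ 1 → χ n = 0) →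
      χ 1 = (Nat.card N : ℂ) → (∀ x, σ (χ x) = χ x) → ∀ η : IrrCharacter G,
      classInner χ (η : G → ℂ) ≠ 0 →
      classInner χ (η : G → ℂ) = 1 ∧ CycOne.galIrr σ η = η := by
    intro χ hχ hreg h1 hfix η hη
    haveI : Finite N := inferInstance
    obtain ⟨ψ, hψ⟩ := exists_constituent (IsChar.res (IsIrr.isCharacter η.2) N) (fun h => by
      obtain ⟨n, hn, hd⟩ := IsIrr.exists_degree η.2
      have e := congrFun h (1 : N)
      simp only [OneMemClass.coe_one, hd, Pi.zero_apply, Nat.cast_eq_zero] at e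
      omega)
    obtain ⟨η₀, ha, hb, huniq⟩ := coeff_unique N hN hχ hreg h1 ψ
    obtain rfl := huniq η hη hψ
    refine ⟨ha, huniq _ ?_ ?_⟩
    · have h := classInner_aut σ (φ := χ) (IsIrr.isCharacter η.2)
        (IsIrr.isCharacter (CycOne.galIrr σ η).2)
      simp only [hfix] at h
      change classInner χ (fun x => σ ((η : G → ℂ) x)) ≠ 0
      rw [← h, ha, map_one]
      exact one_ne_zero
    · change classInner (fun n : N => σ ((η : G → ℂ) n)) (ψ : N → ℂ) ≠ 0
      simp only [hσres]
      exact hψ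
  have sub : ∀ {χ χ' : G → ℂ}, IsCharacter G χ → (∀ n : N, n ≠ 1 → χ n = 0) →
      χ 1 = (Nat.card N : ℂ) → (∀ x, σ (χ x) = χ x) → IsCharacter G χ' →
      (∀ n : N, n ≠ 1 → χ' n = 0) → χ' 1 = (Nat.card N : ℂ) → (∀ x, σ (χ' x) = χ' x) →
      ∀ η : IrrCharacter G, classInner χ (η : G → ℂ) ≠ 0 → classInner χ' (η : G → ℂ) = 1 := by
    intro χ χ' hχ hreg h1 hfix hχ' hreg' h1' hfix' η hη
    obtain ⟨-, hηfix⟩ := key hχ hreg h1 hfix η hη
    obtain ⟨ψ, hψ⟩ := exists_constituent (IsChar.res (IsIrr.isCharacter η.2) N) (fun h => by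
      obtain ⟨n, hn, hd⟩ := IsIrr.exists_degree η.2
      have e := congrFun h (1 : N)
      simp only [OneMemClass.coe_one, hd, Pi.zero_apply, Nat.cast_eq_zero] at e
      omega)
    obtain ⟨η', ha', hb', -⟩ := coeff_unique N hN hχ' hreg' h1' ψ
    have hη'fix := (key hχ' hreg' h1' hfix' η' (by rw [ha']; exact one_ne_zero)).2
    obtain ⟨l, hl, he⟩ := exists_twist_eq N hcomm η.2 η'.2 (by
      intro h0
      rw [classInner_eq_sum (CharInduce.IsGen.isClassFunction (IsGen.of_char
        (IsChar.res (IsIrr.isCharacter η.2) N)))] at h0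
      choose x hx using fun χ : IrrCharacter N => classInner_isChar_nat
        (IsChar.res (IsIrr.isCharacter η.2) N) (IsIrr.isCharacter χ.2)
      choose y hy using fun χ : IrrCharacter N => classInner_isChar_nat
        (IsChar.res (IsIrr.isCharacter η'.2) N) (IsIrr.isCharacter χ.2)
      have h0' : ((∑ χ, x χ * y χ : ℕ) : ℂ) = 0 := by
        push_cast
        rw [← h0]
        exact Finset.sum_congr rfl fun χ _ => by rw [hx, hy, Complex.conj_natCast]
      rcases Nat.mul_eq_zero.1 (Finset.sum_eq_zero_iff.1 (Nat.cast_eq_zero.1 h0') ψ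
        (Finset.mem_univ _)) with h | h
      · exact hψ (by have e := hx ψ; rw [h, Nat.cast_zero] at e; exact e)
      · exact hb' (by have e := hy ψ; rw [h, Nat.cast_zero] at e; exact e))
    have hpow : ∀ x, l x ^ Nat.card (G ⧸ N) = 1 := fun x => by
      rw [← map_pow]
      exact hl ⟨_, (QuotientGroup.eq_one_iff _).1 (by
        rw [QuotientGroup.mk_pow]; exact pow_card_eq_one')⟩
    have hl2 : ∀ x, (l x : ℂ) * (l x : ℂ) * (η' : G → ℂ) x = (η' : G → ℂ) x := fun x => by
      have e1 := congrFun he x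
      have e2 := congrArg σ e1
      rw [map_mul, ← CycOne.galIrr_apply, hηfix, ← CycOne.galIrr_apply, hη'fix,
        hσQ _ (by rw [← Units.val_pow_eq_pow_val, hpow, Units.val_one]), e1] at e2
      have hl0 : (l x : ℂ) ≠ 0 := (l x).ne_zero
      field_simp at e2
      linear_combination e2
    have heq : η = η' := Subtype.ext (he.trans (funext fun x => by
      obtain ⟨j, hj⟩ := hodd
      have hn : ∀ i : ℕ, (l x : ℂ) ^ (2 * i) * (η' : G → ℂ) x = (η' : G → ℂ) x := fun i => by
        induction i with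
        | zero => simp
        | succ i ih =>
          rw [Nat.mul_succ, pow_add, pow_two, mul_assoc, hl2, ih]
      have h := hn (j + 1)
      rw [show 2 * (j + 1) = (2 * j + 1) + 1 by ring, pow_succ, ← hj, ← Units.val_pow_eq_pow_val,
        hpow, Units.val_one, one_mul] at h
      exact h))
    rw [heq, ha']
  rw [classFunction_expansion (CharInduce.IsGen.isClassFunction (IsGen.of_char hχ)),
    classFunction_expansion (CharInduce.IsGen.isClassFunction (IsGen.of_char hχ'))]
  refine Finset.sum_congr rfl fun η _ => ?_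
  congr 1
  by_cases h : classInner χ (η : G → ℂ) = 0
  · rw [h]
    by_contra h'
    exact h' (by
      rw [sub hχ' hreg' h1' hfix' hχ hreg h1 hfix η (Ne.symm h')] at h
      exact absurd h one_ne_zero)
  · rw [sub hχ hreg h1 hfix hχ' hreg' h1' hfix' η h, (key hχ hreg h1 hfix η h).1]

end Cfsg.Agent.H15.WardE
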