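import Cfsg.Agent.H15.WardE.Setting
import Cfsg.Agent.H15.WardE.RatExt
import Cfsg.Agent.Cores.PrincipalCover

/-!
# The principal 2-block of `E = E0 Φ`
-/

set_option autoImplicit false
set_option linter.unusedSectionVars false
set_option linter.style.haveILetI false

namespace Cfsg.Agent.H15.WardE

open Subgroup Cfsg Cfsg.Agent Cfsg.Agent.CharBasic Cfsg.Agent.CharInduce
open scoped ComplexConjugate Classical

universe u

variable {E : Type u} [Group E] [Fintype E] {F : Type} [Field F] [Fintype F] (D : EData E F)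
  [Fintype (Matrix.ProjectiveSpecialLinearGroup (Fin 2) F)]

local notation "P2" => Matrix.ProjectiveSpecialLinearGroup (Fin 2) F

namespace EData

/-- Conjugation on `E0`. -/
noncomputable def conjE0 (x : E) : MulAut D.E0 :=
  haveI := D.normal
  MulAut.conjNormal x

theorem coe_conjE0 (x : E) (a : D.E0) : ((D.conjE0 x a : D.E0) : E) = x * a * x⁻¹ := by
  haveI := D.normal
  exact MulAut.conjNormal_apply x a

theorem conjE0_pow (x : E) (n : ℕ) (a : D.E0) :
    ((D.conjE0 (x ^ n) a : D.E0) : E) = x ^ n * a * (x ^ n)⁻¹ := D.coe_conjE0 _ a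

theorem mkQ_comm [D.E0.Normal] : ∀ a b : E ⧸ D.E0, a * b = b * a := fun a b => by
  obtain ⟨x, rfl⟩ := QuotientGroup.mk_surjective a
  obtain ⟨y, rfl⟩ := QuotientGroup.mk_surjective b
  obtain ⟨a, ha, s, hs, rfl⟩ := D.exists_mul x
  obtain ⟨b, hb, t, ht, rfl⟩ := D.exists_mul y
  haveI := D.cyc
  have hst : s * t = t * s :=
    congrArg Subtype.val (by haveI := IsCyclic.isMulCommutative (α := D.Phi); exact mul_comm' (⟨s, hs⟩ : D.Phi) ⟨t, ht⟩)
  simp only [QuotientGroup.mk_mul, (QuotientGroup.eq_one_iff a).2 ha,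
    (QuotientGroup.eq_one_iff b).2 hb, one_mul]
  rw [← QuotientGroup.mk_mul, hst, QuotientGroup.mk_mul]

theorem mkQ_cyclic [D.E0.Normal] : IsCyclic (E ⧸ D.E0) := by
  haveI := D.cyc
  refine isCyclic_of_surjective ((QuotientGroup.mk' D.E0).comp D.Phi.subtype) fun q => ?_
  obtain ⟨x, rfl⟩ := QuotientGroup.mk_surjective q
  obtain ⟨a, ha, s, hs, rfl⟩ := D.exists_mul x
  exact ⟨⟨s, hs⟩, by simp [(QuotientGroup.eq_one_iff a).2 ha]⟩

end EData

/-- The four characters of `E`. -/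
structure ESide (c : Fin 4 → IrrCharacter E) : Prop where
  one : (c 0 : E → ℂ) = fun _ => 1
  inj : Function.Injective c
  block : ∀ M : Ideal AlgInt, IsPModular 2 M → principalBlock M E = Set.range c
  res : ∃ c0 : Fin 4 → IrrCharacter P2, PslBlock D.tori c0 ∧
    ∀ j x, (c j : E → ℂ) (D.ι x) = (c0 j : P2 → ℂ) x
  coset : ∀ j, ∀ k : E, Odd (orderOf k) → Commute D.v k →
    (c j : E → ℂ) (D.v * k) = if j = 3 then -1 else 1
  rel : ∀ y : E, Odd (orderOf y) → (c 3 : E → ℂ) y = 1 + (c 1 : E → ℂ) y + (c 2 : E → ℂ) y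

theorem isIrr_comp_equiv {A B : Type*} [Group A] [Group B] [Finite A] (α : A ≃* B)
    (χ : IrrCharacter B) : IsIrrCharacter A ((χ : B → ℂ) ∘ α) :=
  IsIrr.comp χ.2 α.toMonoidHom α.surjective

theorem perm_cases (p : Fin 4 → Fin 4) (hinj : ∀ i i', p i = p i' → i = i') (h0 : p 0 = 0)
    (h3 : p 3 = 3) : (∀ j, p j = j) ∨ (p 1 = 2 ∧ p 2 = 1) := by
  have a : ∀ i : Fin 4, i ≠ 0 → i ≠ 3 → p i = 1 ∨ p i = 2 := fun i hi0 hi3 => by
    have n0 : p i ≠ 0 := fun e => hi0 (hinj i 0 (e.trans h0.symm))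
    have n3 : p i ≠ 3 := fun e => hi3 (hinj i 3 (e.trans h3.symm))
    revert n0 n3
    generalize p i = r
    revert r
    decide
  have n12 : p 1 ≠ p 2 := fun e => absurd (hinj 1 2 e) (by decide)
  rcases a 1 (by decide) (by decide) with h1 | h1
  · refine Or.inl fun j => ?_
    have h2 : p 2 = 2 := (a 2 (by decide) (by decide)).resolve_left fun e => n12 (h1.trans e.symm)
    fin_cases j
    exacts [h0, h1, h2, h3]
  · exact Or.inr ⟨h1, (a 2 (by decide) (by decide)).resolve_right fun e => n12 (h1.trans e.symm)⟩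

/-- The characters of `PSL₂(q)` as characters of `E0`. -/
noncomputable def onE0 (χ : IrrCharacter P2) : IrrCharacter D.E0 :=
  ⟨(χ : P2 → ℂ) ∘ D.e, isIrr_comp_equiv D.e χ⟩

theorem onE0_apply (χ : IrrCharacter P2) (a : D.E0) :
    (onE0 D χ : D.E0 → ℂ) a = (χ : P2 → ℂ) (D.e a) := rfl

theorem onE0_inj {c0 : Fin 4 → IrrCharacter P2} (hc0 : PslBlock D.tori c0) {i i' : Fin 4}
    (h : ∀ a : D.E0, (c0 i : P2 → ℂ) (D.e a) = (c0 i' : P2 → ℂ) (D.e a)) : i = i' :=
  hc0.inj (Subtype.ext (funext fun z => by simpa using h (D.e.symm z)))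

/-- Conjugation permutes the principal block of `E0`. -/
theorem exists_perm {c0 : Fin 4 → IrrCharacter P2} (hc0 : PslBlock D.tori c0) {M : Ideal AlgInt}
    (hM : IsPModular 2 M) (x : E) (j : Fin 4) :
    ∃ i, ∀ a : D.E0, (c0 j : P2 → ℂ) (D.e (D.conjE0 x a)) = (c0 i : P2 → ℂ) (D.e a) := by
  let α : MulAut P2 := (D.e.symm.trans (D.conjE0 x)).trans D.e
  let χ : IrrCharacter P2 := ⟨(c0 j : P2 → ℂ) ∘ α, isIrr_comp_equiv α _⟩
  have hmem : χ ∈ principalBlock M P2 := by
    rw [mem_principal_iff hM]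
    show oddSum ((c0 j : P2 → ℂ) ∘ α) ≠ 0
    rw [oddSum_comp, ← mem_principal_iff hM, hc0.block M hM]
    exact ⟨j, rfl⟩
  rw [hc0.block M hM] at hmem
  obtain ⟨i, hi⟩ := hmem
  refine ⟨i, fun a => ?_⟩
  rw [hi]
  show _ = (c0 j : P2 → ℂ) (D.e (D.conjE0 x (D.e.symm (D.e a))))
  rw [MulEquiv.symm_apply_apply]

/-- The principal block of `E0` is fixed by `E`. -/
theorem invariant {c0 : Fin 4 → IrrCharacter P2} (hc0 : PslBlock D.tori c0) {M : Ideal AlgInt}
    (hM : IsPModular 2 M) (x : E) (j : Fin 4) (a : D.E0) :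
    (c0 j : P2 → ℂ) (D.e (D.conjE0 x a)) = (c0 j : P2 → ℂ) (D.e a) := by
  haveI := D.normal
  choose p hp using exists_perm D hc0 hM
  have hv2 : orderOf D.tori.v = 2 :=
    orderOf_eq_prime_iff.2 ⟨by rw [pow_two, D.tori.hv], D.tori.hv1⟩
  have hv : ∀ j : Fin 4, (p x j = 3 ↔ j = 3) := fun j => by
    have h := hp x j (D.e.symm D.tori.v)
    rw [MulEquiv.apply_symm_apply, hc0.inv2 _ hv2, hc0.inv2 _ (by
      rw [MulEquiv.orderOf_eq, MulEquiv.orderOf_eq, MulEquiv.orderOf_eq, hv2])] at h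
    constructor <;> intro e <;> by_contra hne
    · rw [if_neg hne, if_pos e] at h; norm_num at h
    · rw [if_pos e, if_neg hne] at h; norm_num at h
  have hpinj : ∀ i i', p x i = p x i' → i = i' := fun i i' e => onE0_inj D hc0 fun a => by
    obtain ⟨b, rfl⟩ := (D.conjE0 x).surjective a
    rw [hp x i b, hp x i' b, e]
  have hp0 : p x 0 = 0 := onE0_inj D hc0 fun a => by rw [← hp x 0 a, hc0.one]
  rw [hp x j a]
  rcases perm_cases (p x) hpinj hp0 ((hv 3).2 rfl) with h | ⟨h1, h2⟩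
  · rw [h j]
  exfalso
  have hpow : ∀ n : ℕ, ∀ a : D.E0, (c0 1 : P2 → ℂ) (D.e (D.conjE0 (x ^ n) a)) =
      (c0 (if Even n then 1 else 2) : P2 → ℂ) (D.e a) := by
    intro n
    induction n with
    | zero =>
      intro a
      rw [if_pos (by decide), show D.conjE0 (x ^ 0) a = a from
        Subtype.ext (by simp [D.coe_conjE0])]
    | succ n ih =>
      intro a
      have e : D.conjE0 (x ^ (n + 1)) a = D.conjE0 (x ^ n) (D.conjE0 x a) := Subtype.ext (by
        simp only [D.coe_conjE0, pow_succ]; group)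
      rw [e, ih]
      by_cases hn : Even n
      · rw [if_pos hn, if_neg (by simp [Nat.even_add_one, hn]), hp, h1]
      · rw [if_neg hn, if_pos (by simp [Nat.even_add_one, hn]), hp, h2]
  have hn : x ^ D.E0.index ∈ D.E0 := (QuotientGroup.eq_one_iff _).1 (by
    rw [QuotientGroup.mk_pow]; exact pow_card_eq_one')
  have h := onE0_inj D hc0 (i := 1) (i' := 2) fun a => by
    have e1 := hpow D.E0.index a
    rw [if_neg (Nat.not_even_iff_odd.2 D.odd_index)] at e1
    rw [← e1, show D.conjE0 (x ^ D.E0.index) a = ⟨_, hn⟩ * a * (⟨_, hn⟩ : D.E0)⁻¹ from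
      Subtype.ext (D.coe_conjE0 _ a), map_mul, map_mul, map_inv]
    exact (IsIrr.isClassFunction (c0 1).2 _ _).symm
  exact absurd h (by decide)

/-- An extension in the principal block. -/
theorem exists_lift_one {c0 : Fin 4 → IrrCharacter P2} (hc0 : PslBlock D.tori c0)
    {M : Ideal AlgInt} (hM : IsPModular 2 M) (j : Fin 4) :
    ∃ χ : IrrCharacter E, χ ∈ principalBlock M E ∧
      ∀ x, (χ : E → ℂ) (D.ι x) = (c0 j : P2 → ℂ) x := by
  haveI := D.normal
  haveI : Fintype D.E0 := Fintype.ofFinite _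
  haveI : Fact (Nat.Prime 2) := ⟨Nat.prime_two⟩
  have hd : onE0 D (c0 j) ∈ principalBlock M D.E0 := by
    rw [mem_principal_iff hM]
    have e : oddSum (onE0 D (c0 j) : D.E0 → ℂ) = oddSum (c0 j : P2 → ℂ) :=
      Finset.sum_equiv D.e.toEquiv (fun x => by simp [MulEquiv.orderOf_eq]) fun x _ => rfl
    rw [e, ← mem_principal_iff hM, hc0.block M hM]
    exact ⟨j, rfl⟩
  obtain ⟨n, ρ, hρ, hχ⟩ := (onE0 D (c0 j)).2
  haveI := hρ
  obtain ⟨φ, hφ, hres⟩ := H35.Extend.exists_extension_cyclic ρ (fun g m => by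
    rw [hχ, onE0_apply, onE0_apply, ← invariant D hc0 hM g j m]
    exact congrArg (fun z => (c0 j : P2 → ℂ) (D.e z))
      (Subtype.ext (D.coe_conjE0 g m).symm)) D.mkQ_cyclic
  obtain ⟨χ, hχB, hne⟩ := Cores.exists_over_principalBlock hM D.E0 hd
  obtain ⟨l, hl, he⟩ := exists_twist_eq D.E0 D.mkQ_comm χ.2 hφ (by
    rw [show (fun n : D.E0 => φ n) = (onE0 D (c0 j) : D.E0 → ℂ) from funext fun n => by
      rw [hres n, hχ]]
    exact hne)
  refine ⟨χ, hχB, fun x => ?_⟩
  rw [show D.ι x = ((D.e.symm x : D.E0) : E) from rfl, congrFun he, hl, Units.val_one, one_mul,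
    hres, hχ, onE0_apply, MulEquiv.apply_symm_apply]

theorem exists_lift : ∃ c : Fin 4 → IrrCharacter E, ESide D c := by
  haveI := D.normal
  obtain ⟨M, hM⟩ := BlockBasic.exists_isPModular Nat.prime_two
  obtain ⟨c0, hc0⟩ := exists_pslBlock D.tori D.h3
  choose χ hχB hχres using exists_lift_one D hc0 hM
  let c : Fin 4 → IrrCharacter E := fun j => if j = 0 then BlockBasic.trivialIrr else χ j
  have hcB : ∀ j, c j ∈ principalBlock M E := fun j => by
    by_cases h : j = 0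
    · simp only [c, if_pos h]
      rw [mem_principal_iff hM, show ((BlockBasic.trivialIrr : IrrCharacter E) : E → ℂ) =
        fun _ => 1 from rfl, oddSum, Finset.sum_const, nsmul_eq_mul, mul_one, Nat.cast_ne_zero]
      exact Finset.card_ne_zero.2 ⟨1, by simp⟩
    · simp only [c, if_neg h]; exact hχB j
  have hcres : ∀ j x, (c j : E → ℂ) (D.ι x) = (c0 j : P2 → ℂ) x := fun j x => by
    by_cases h : j = 0
    · simp only [c, if_pos h]; rw [h, hc0.one]; rfl
    · simp only [c, if_neg h]; exact hχres j x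
  have hcinj : Function.Injective c := fun i j e => hc0.inj (Subtype.ext (funext fun z => by
    rw [← hcres i z, ← hcres j z, e]))
  have hblock : ∀ M' : Ideal AlgInt, IsPModular 2 M' → principalBlock M' E = Set.range c := by
    intro M' hM'
    refine (Set.eq_of_subset_of_ncard_le (Set.range_subset_iff.2 fun j => ?_) ?_
      (Set.toFinite _)).symm
    · rw [mem_principal_iff hM', ← mem_principal_iff hM]
      exact hcB j
    · rw [Set.ncard_range_of_injective hcinj, Nat.card_fin]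
      exact D.kleinOne.ncard_le hM'
  have hcoset : ∀ j, ∀ k : E, Odd (orderOf k) → Commute D.v k →
      (c j : E → ℂ) (D.v * k) = if j = 3 then -1 else 1 := fun j k hk hc => by
    rw [D.kleinOne.apply_mul hM (hcB j) D.orderOf_v hk hc, EData.v, hcres,
      hc0.inv2 _ (orderOf_eq_prime_iff.2 ⟨by rw [pow_two, D.tori.hv], D.tori.hv1⟩)]
  refine ⟨c, by simp [c, BlockBasic.trivialIrr], hcinj, hblock, ⟨c0, hc0, hcres⟩, hcoset, ?_⟩
  intro y hy
  have hval : ∀ j, (c j : E → ℂ) D.v = if j = 3 then -1 else 1 := fun j => by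
    simpa using hcoset j 1 (by simp) (Commute.one_right _)
  obtain ⟨P, hP⟩ := D.kleinOne.klein
  obtain ⟨z2, z3, z4, ε, hε, h21, h31, h23, h24, h34, hB, hv', -, -, -, hrel⟩ :=
    S0948.result M hM P hP D.kleinOne.one
  obtain ⟨e2, e3, e4⟩ := hv' D.v D.orderOf_v
  have hmem : ∀ z, (z = z2 ∨ z = z3 ∨ z = z4) → ∃ j, c j = z := fun z hz => by
    have : z ∈ principalBlock M E := hB ▸ Or.inr hz
    rwa [hblock M hM] at this
  obtain ⟨j2, rfl⟩ := hmem z2 (Or.inl rfl)
  obtain ⟨j3, rfl⟩ := hmem z3 (Or.inr (Or.inl rfl))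
  obtain ⟨j4, rfl⟩ := hmem z4 (Or.inr (Or.inr rfl))
  rw [hval] at e2 e3 e4
  have hj4 : j4 = 3 := by
    by_contra h; rw [if_neg h] at e4; norm_num at e4
  subst hj4
  have hj3 : j3 ≠ 3 := fun e => h34 (by rw [e])
  have hj2 : j2 ≠ 3 := fun e => h24 (by rw [e])
  rw [if_neg hj3] at e3
  have hr := hrel y hy
  rw [← e3] at hr
  have hj30 : j3 ≠ 0 := fun e => h31 (by rw [e]; simp [c, BlockBasic.trivialIrr])
  have hj20 : j2 ≠ 0 := fun e => h21 (by rw [e]; simp [c, BlockBasic.trivialIrr])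
  have hj23 : j2 ≠ j3 := fun e => h23 (by rw [e])
  have h12 : (j2 = 1 ∧ j3 = 2) ∨ (j2 = 2 ∧ j3 = 1) := by
    revert hj2 hj3 hj20 hj30 hj23
    clear * -
    revert j2 j3
    decide
  rcases h12 with ⟨rfl, rfl⟩ | ⟨rfl, rfl⟩ <;> linear_combination -hr

end Cfsg.Agent.H15.WardE
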