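import Cfsg.Agent.H15.WardE.Block
import Cfsg.Agent.H15.Ward.PslSide
import Cfsg.Agent.H15.Ward.PslConj

/-!
# The principal 2-block of `PSL₂(q)`, `q ≡ 3 (mod 8)`, from the functions `Φ₀`, `Φ±`

`Φ₀ = 1 + X`, `Φ± = X + Y±` and the principal block is `{1, Y₊, Y₋, X}`.
-/

set_option autoImplicit false
set_option linter.unusedSectionVars false
set_option linter.style.haveILetI false

namespace Cfsg.Agent.H15.WardE

open Subgroup Cfsg Cfsg.Agent Cfsg.Agent.CharBasic Cfsg.Agent.CharInduce
open Cfsg.Agent.Linear.Dickson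
open Cfsg.Agent.H15.Ward (Tori indH_one)
open scoped ComplexConjugate Classical

variable {F : Type} [Field F] [Fintype F] (T : Tori F)

local notation "P2" => Matrix.ProjectiveSpecialLinearGroup (Fin 2) F

theorem not_four_dvd_order (T : Tori F) (x : P2) (h4 : x ^ 4 = 1) : x * x = 1 := by
  by_contra h
  obtain ⟨g, hg⟩ := isConj_iff.1 (H33.Binary.isConj_invol (x * x) T.v h
    (by rw [← mul_assoc, mul_assoc x x x, mul_assoc x, ← h4]; simp [pow_succ, mul_assoc])
    T.hv1 T.hv)
  set y := g * x * g⁻¹ with hy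
  have hy2 : y * y = T.v := by rw [← hg, hy]; group
  have hcy : y * T.v * y⁻¹ = T.v := by rw [← hy2]; group
  have hN : ∀ z, z ∈ cen T.v ↔ y * z * y⁻¹ ∈ cen T.v := fun z => by
    have h' := mem_cen_conj y T.v z
    rw [hcy] at h'
    exact h'.symm
  rcases normalizer_cases T.not_isUni_v hN with hc | ⟨hy1, -⟩
  · have h1 : orderOf y = 2 ^ 2 := by
      refine orderOf_eq_prime_pow (hp := ⟨Nat.prime_two⟩) (fun e => T.hv1 ?_) ?_
      · rw [← hy2, ← pow_two]; simpa using e
      · rw [show (2 : ℕ) ^ (1 + 1) = 2 + 2 from rfl, pow_add, pow_two, hy2, T.hv]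
    have h2 := Subgroup.orderOf_dvd_natCard _ hc
    rw [T.card_cen_v, h1] at h2
    obtain ⟨c, hc'⟩ := h2
    have := Nat.odd_iff.1 T.odd_K
    omega
  · exact T.hv1 (hy2.symm.trans hy1)

theorem factorization_card (T : Tori F) : (Nat.card P2).factorization 2 = 2 := by
  have ho : Odd (Fintype.card F * Nat.card T.M * Nat.card T.K) :=
    (T.odd_q.mul T.odd_M).mul T.odd_K
  have h : Nat.card P2 = 2 ^ 2 * (Fintype.card F * Nat.card T.M * Nat.card T.K) := by
    rw [T.card_psl_eq]; ring
  rw [h, Nat.factorization_mul (by norm_num) ho.pos.ne', Finsupp.add_apply,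
    Nat.factorization_pow, Finsupp.smul_apply, Nat.Prime.factorization_self Nat.prime_two,
    Nat.factorization_eq_zero_of_not_dvd ((two_dvd_iff _).2 ho)]
  rfl

theorem kleinOne (T : Tori F) : KleinOne P2 where
  klein := by
    have : Fact (Nat.Prime 2) := ⟨Nat.prime_two⟩
    obtain ⟨P⟩ : Nonempty (Sylow 2 P2) := inferInstance
    have hc : Nat.card (P : Subgroup P2) = 4 := by
      rw [P.card_eq_multiplicity, factorization_card T]; rfl
    have hsq : ∀ x : (P : Subgroup P2), x * x = 1 := fun x =>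
      Subtype.ext (not_four_dvd_order T x (by
        have := congrArg Subtype.val (pow_card_eq_one' (x := x))
        rwa [hc] at this))
    refine ⟨P, hc, ?_⟩
    have hdvd : Monoid.exponent (P : Subgroup P2) ∣ 2 :=
      Monoid.exponent_dvd_of_forall_pow_eq_one fun x => by rw [pow_two, hsq]
    rcases (Nat.dvd_prime Nat.prime_two).1 hdvd with h1 | h1
    · have := Monoid.exp_eq_one_iff.1 h1
      have : Subsingleton (P : Subgroup P2) := this
      rw [Nat.card_of_subsingleton (1 : (P : Subgroup P2))] at hc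
      omega
    · exact h1
  one s t hs ht := H33.Binary.isConj_invol s t
    (fun e => by rw [e, orderOf_one] at hs; omega)
    (by have e := pow_orderOf_eq_one s; rw [hs, pow_two] at e; exact e)
    (fun e => by rw [e, orderOf_one] at ht; omega)
    (by have e := pow_orderOf_eq_one t; rw [ht, pow_two] at e; exact e)

variable [Fintype (Matrix.ProjectiveSpecialLinearGroup (Fin 2) F)]

theorem phi_one (h3 : Fintype.card F % 8 = 3) (b : Bool) :
    T.phi b 1 * 2 = 3 * (Fintype.card F : ℂ) - 1 := by
  have hq : (Ward.Tori.sn F : ℂ) = 1 := by rw [Ward.Tori.sn, if_pos h3]; norm_num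
  have hQ : (Ward.Tori.Q (F := F) : ℂ) = (Fintype.card F : ℂ) := by
    rw [Ward.Tori.Q_eq, hq, one_mul]
  have hU := T.index_uni
  have hK := T.index_K
  have hM := T.index_M
  have h4 := T.four_n
  have h2 := T.two_M
  have hk := T.two_k
  have hl := T.two_l
  simp only [Ward.Tori.phi, Ward.Tori.E, Ward.Tori.IK, Ward.Tori.IM, Pi.add_apply, Pi.sub_apply,
    Finset.sum_apply, indH_one, Finset.sum_const, nsmul_eq_mul]
  rw [hK, hM] at *
  rw [hQ] at *
  rw [hq] at h4 h2
  linear_combination hU + 2 * (Fintype.card F : ℂ) * ((Fintype.card F : ℂ) - 1) * hk -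
    (Fintype.card F : ℂ) * ((Fintype.card F : ℂ) + 1) * hl +
    (Fintype.card F : ℂ) * ((Fintype.card F : ℂ) - 1) / 2 * h4 -
    (Fintype.card F : ℂ) * ((Fintype.card F : ℂ) + 1) / 2 * h2

theorem phi0_one (h3 : Fintype.card F % 8 = 3) : T.phi0 1 = (Fintype.card F : ℂ) + 1 := by
  have hq : (Ward.Tori.sn F : ℂ) = 1 := by rw [Ward.Tori.sn, if_pos h3]; norm_num
  have hQ : (Ward.Tori.Q (F := F) : ℂ) = (Fintype.card F : ℂ) := by
    rw [Ward.Tori.Q_eq, hq, one_mul]
  simp only [Ward.Tori.phi0, Ward.Tori.phiLam, Ward.Tori.S, Ward.Tori.E, Pi.sub_apply,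
    Pi.add_apply, indH_one, T.index_M, hQ]
  linear_combination (-1 : ℂ) * T.index_uni +
    (-1 : ℂ) * (congrArg (· ^ 2) hQ)

/-- A generalised character of norm one and positive degree is irreducible. -/
theorem exists_irr {L : Type} [Group L] [Fintype L] {f : L → ℂ}
    (hf : IsGeneralizedCharacter L f) (h1 : classInner f f = 1) {n : ℕ} (hn : f 1 = n) :
    ∃ χ : IrrCharacter L, (χ : L → ℂ) = f := by
  obtain ⟨χ, h | h⟩ := IsGen.eq_irr_or_neg hf h1
  · exact ⟨χ, h.symm⟩
  · obtain ⟨m, hm, hd⟩ := IsIrr.exists_degree χ.2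
    rw [h, Pi.neg_apply, hd, neg_eq_iff_add_eq_zero] at hn
    have : m + n = 0 := by exact_mod_cast hn
    omega

/-- The four characters of the principal block of `PSL₂(q)`. -/
structure PslBlock (c : Fin 4 → IrrCharacter P2) : Prop where
  one : (c 0 : P2 → ℂ) = fun _ => 1
  inj : Function.Injective c
  block : ∀ M : Ideal AlgInt, IsPModular 2 M → principalBlock M P2 = Set.range c
  prin : ∀ i : Fin 3, T.prin i = (c i.castSucc : P2 → ℂ) + (c 3 : P2 → ℂ)
  inv2 : ∀ z : P2, orderOf z = 2 → ∀ j, (c j : P2 → ℂ) z = if j = 3 then -1 else 1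
  deg3 : (c 3 : P2 → ℂ) 1 = (Fintype.card F : ℂ)
  deg : ∀ j : Fin 4, j ≠ 0 → j ≠ 3 → (c j : P2 → ℂ) 1 * 2 = (Fintype.card F : ℂ) - 1

theorem exists_pslBlock (h3 : Fintype.card F % 8 = 3) :
    ∃ c : Fin 4 → IrrCharacter P2, PslBlock T c := by
  have h5 := T.h5
  have hodd := T.odd_q
  have hg := T.prin_prin
  have hg1 : ∀ i, classInner (T.prin i) (fun _ => (1 : ℂ)) = if i = 0 then 1 else 0 := fun i => by
    have h := T.one_fn (.inl i)
    simp only [Ward.Tori.fn, Ward.Tori.oneVec] at h
    rw [h]; split_ifs <;> simp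
  have hone : IsIrrCharacter P2 (fun _ => (1 : ℂ)) := (BlockBasic.trivialIrr (G := P2)).2
  have h11 := classInner_irr_self hone
  have hg1' : ∀ i, classInner (fun _ => (1 : ℂ)) (T.prin i) = if i = 0 then 1 else 0 := fun i => by
    rw [← classInner_conj_symm, hg1]; split_ifs <;> simp
  have hone_gen : IsGeneralizedCharacter P2 (fun _ => (1 : ℂ)) := IsGen.of_char IsChar.one
  have hp0 : T.prin 0 = T.phi0 := if_pos rfl
  obtain ⟨X, hX⟩ := exists_irr (f := T.prin 0 - fun _ => (1 : ℂ))
    (IsGen.sub (hp0 ▸ T.isGen_phiLam 1) hone_gen) (by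
      rw [classInner_sub_left, classInner_sub_right, classInner_sub_right, hg, hg1, hg1', h11]
      simp; norm_num) (n := Fintype.card F) (by
      rw [Pi.sub_apply, hp0, phi0_one T h3]; ring)
  have hXi : ∀ i, classInner (T.prin i) (X : P2 → ℂ) = 1 := fun i => by
    rw [hX, classInner_sub_right, hg, hg1]; split_ifs <;> norm_num
  have hiX : ∀ i, classInner (X : P2 → ℂ) (T.prin i) = 1 := fun i => by
    rw [← classInner_conj_symm, hXi, map_one]
  have hY : ∀ b : Bool, ∃ Y : IrrCharacter P2, (Y : P2 → ℂ) = T.phi b - (X : P2 → ℂ) := by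
    intro b
    obtain ⟨i, hi0, hi⟩ : ∃ i : Fin 3, i ≠ 0 ∧ T.prin i = T.phi b := by
      cases b
      · exact ⟨2, by decide, by simp [Ward.Tori.prin]⟩
      · exact ⟨1, by decide, by simp [Ward.Tori.prin]⟩
    obtain ⟨h, hh⟩ : ∃ h, 2 * h + 1 = Fintype.card F := ⟨Fintype.card F / 2, by omega⟩
    refine exists_irr (IsGen.sub (T.isGen_phi b) (IsGen.of_char (IsIrr.isCharacter X.2))) ?_
      (n := h) ?_
    · rw [← hi, classInner_sub_left, classInner_sub_right, classInner_sub_right, hg, hXi, hiX,
        classInner_irr_self X.2]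
      simp; norm_num
    · have e := phi_one T h3 b
      rw [Pi.sub_apply, hX, Pi.sub_apply, hp0, phi0_one T h3]
      rw [← hh] at e ⊢
      push_cast at e ⊢
      linear_combination e / 2
  choose Y hY using hY
  let c : Fin 4 → IrrCharacter P2 := ![BlockBasic.trivialIrr, Y true, Y false, X]
  have hdeg3 : (X : P2 → ℂ) 1 = (Fintype.card F : ℂ) := by
    rw [hX, Pi.sub_apply, hp0, phi0_one T h3]; ring
  have hdegY : ∀ b, (Y b : P2 → ℂ) 1 * 2 = (Fintype.card F : ℂ) - 1 := fun b => by
    rw [hY, Pi.sub_apply, hdeg3, sub_mul, phi_one T h3]; ring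
  have hYne : Y true ≠ Y false := fun e => by
    have h := hg 1 2
    rw [show T.prin 1 = T.phi true by simp [Ward.Tori.prin],
      show T.prin 2 = T.phi false by simp [Ward.Tori.prin], if_neg (by decide)] at h
    rw [show T.phi true = T.phi false by
      have e' := congrArg Subtype.val e
      rw [hY, hY] at e'
      exact sub_left_inj.1 e', T.gram_phi_phi] at h
    norm_num at h
  have hd : ∀ b, Y b ≠ X ∧ Y b ≠ BlockBasic.trivialIrr ∧ X ≠ BlockBasic.trivialIrr := by
    intro b
    have hq : (5 : ℕ) ≤ Fintype.card F := h5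
    refine ⟨fun e => ?_, fun e => ?_, fun e => ?_⟩
    · have h := hdegY b
      rw [e, hdeg3] at h
      have : ((Fintype.card F + 1 : ℕ) : ℂ) = 0 := by push_cast; linear_combination h
      exact Nat.succ_ne_zero _ (Nat.cast_eq_zero.1 this)
    · have h := hdegY b
      rw [e] at h
      change (1 : ℂ) * 2 = _ at h
      have : ((3 : ℕ) : ℂ) = (Fintype.card F : ℂ) := by push_cast; linear_combination h
      have := Nat.cast_injective this
      omega
    · rw [e] at hdeg3
      change (1 : ℂ) = _ at hdeg3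
      have : Fintype.card F = 1 := by exact_mod_cast hdeg3.symm
      omega
  have hinj : Function.Injective c := by
    intro i j e
    fin_cases i <;> fin_cases j <;>
      simp [c, hYne, hYne.symm, (hd true).1, (hd true).2.1, (hd true).2.2, (hd false).1,
        (hd false).2.1, (hd true).1.symm, (hd true).2.1.symm, (hd true).2.2.symm, (hd false).1.symm,
        (hd false).2.1.symm] at e ⊢
  have hprin : ∀ i : Fin 3, T.prin i = (c i.castSucc : P2 → ℂ) + (c 3 : P2 → ℂ) := by
    intro i
    fin_cases i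
    · show T.prin 0 = (fun _ => (1 : ℂ)) + (X : P2 → ℂ)
      rw [hX]; abel
    · show T.prin 1 = (Y true : P2 → ℂ) + (X : P2 → ℂ)
      rw [hY]; simp [Ward.Tori.prin]
    · show T.prin 2 = (Y false : P2 → ℂ) + (X : P2 → ℂ)
      rw [hY]; simp [Ward.Tori.prin]
  have hzero : ∀ i x, ¬ Odd (orderOf x) → T.prin i x = 0 := fun i => (T.van_fn (.inl i)).even
  refine ⟨c, rfl, hinj, fun M hM => ?_, hprin, fun z hz j => ?_, hdeg3, fun j h0 hj => ?_⟩
  · have hmem : ∀ j, c j ∈ principalBlock M P2 := by
      have hsum : ∀ i : Fin 3, oddSum (c i.castSucc : P2 → ℂ) + oddSum (c 3 : P2 → ℂ) =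
          (Nat.card P2 : ℂ) * if i = 0 then 1 else 0 := fun i => by
        rw [← oddSum_add, ← hprin, oddSum_eq_inner (hzero i), hg1]
      have hX0 : oddSum (c 3 : P2 → ℂ) ≠ 0 := fun h => by
        have e := hsum 0
        rw [h, add_zero, if_pos rfl, mul_one, oddSum] at e
        have e1 : (Finset.univ.filter fun x : P2 => Odd (orderOf x)).card = Nat.card P2 := by
          have : ((Finset.univ.filter fun x : P2 => Odd (orderOf x)).card : ℂ) =
              (Nat.card P2 : ℂ) := by
            rw [← e]; simp [c, BlockBasic.trivialIrr]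
          exact_mod_cast this
        rw [Nat.card_eq_fintype_card, Finset.card_eq_iff_eq_univ] at e1
        have hv := (Finset.mem_filter.1 (e1.symm ▸ Finset.mem_univ T.v)).2
        rw [orderOf_eq_prime (p := 2) (by rw [pow_two, T.hv]) T.hv1] at hv
        exact absurd hv (by decide)
      intro j
      rw [mem_principal_iff hM]
      fin_cases j
      · show oddSum (fun _ : P2 => (1 : ℂ)) ≠ 0
        rw [oddSum, Finset.sum_const, nsmul_eq_mul, mul_one, Nat.cast_ne_zero]
        exact Finset.card_ne_zero.2 ⟨1, by simp⟩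
      · intro h
        apply hX0
        have e := hsum 1
        rw [if_neg (show (1 : Fin 3) ≠ 0 by decide), mul_zero] at e
        exact (eq_neg_of_add_eq_zero_right e).trans (neg_eq_zero.2 h)
      · intro h
        apply hX0
        have e := hsum 2
        rw [if_neg (show (2 : Fin 3) ≠ 0 by decide), mul_zero] at e
        exact (eq_neg_of_add_eq_zero_right e).trans (neg_eq_zero.2 h)
      · exact hX0
    refine (Set.eq_of_subset_of_ncard_le (Set.range_subset_iff.2 hmem) ?_ (Set.toFinite _)).symm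
    rw [Set.ncard_range_of_injective hinj, Nat.card_fin]
    exact (kleinOne T).ncard_le hM
  · have h0 : ∀ i : Fin 3, (c i.castSucc : P2 → ℂ) z + (c 3 : P2 → ℂ) z = 0 := fun i => by
      rw [← Pi.add_apply, ← hprin]
      exact hzero i z (by rw [hz]; decide)
    have hc3 : (c 3 : P2 → ℂ) z = -1 := by
      have := h0 0
      change (1 : ℂ) + _ = 0 at this
      linear_combination this
    fin_cases j
    · rfl
    · have := h0 1; simp_all; linear_combination this
    · have := h0 2; simp_all; linear_combination this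
    · simpa using hc3
  · fin_cases j
    · exact absurd rfl h0
    · exact hdegY true
    · exact hdegY false
    · exact absurd rfl hj

end Cfsg.Agent.H15.WardE
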