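import Cfsg.Agent.H15.WardE.PslBlock

/-!
# `PSL₂(q)` extended by a cyclic group of odd order prime to it
-/

set_option autoImplicit false
set_option linter.unusedSectionVars false
set_option linter.style.haveILetI false

namespace Cfsg.Agent.H15.WardE

open Subgroup Cfsg Cfsg.Agent
open Cfsg.Agent.H15.Ward (Tori)

universe u

/-- `E = E0 Φ`: `E0 ≅ PSL₂(q)`, `q ≡ 3 (mod 8)`, `Φ` cyclic of odd order prime to `|E0|`, centralising
the involution `v` and normalising the torus of `v`. -/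
structure EData (E : Type u) [Group E] (F : Type) [Field F] [Fintype F] where
  E0 : Subgroup E
  normal : E0.Normal
  tori : Tori F
  h3 : Fintype.card F % 8 = 3
  e : ↥E0 ≃* Matrix.ProjectiveSpecialLinearGroup (Fin 2) F
  Phi : Subgroup E
  cyc : IsCyclic ↥Phi
  odd : Odd (Nat.card ↥Phi)
  cop : (Nat.card ↥Phi).Coprime (Nat.card ↥E0)
  top : E0 ⊔ Phi = ⊤
  comm_v : ∀ y ∈ Phi, Commute y (e.symm tori.v : E)
  norm_T : ∀ y ∈ Phi, ∀ t ∈ tori.K, ∃ t' ∈ tori.K, y * (e.symm t : E) * y⁻¹ = (e.symm t' : E)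

namespace EData

variable {E : Type u} [Group E] {F : Type} [Field F] [Fintype F] (D : EData E F)

/-- The inclusion of `PSL₂(q)`. -/
def ι : Matrix.ProjectiveSpecialLinearGroup (Fin 2) F →* E := D.E0.subtype.comp D.e.symm.toMonoidHom

theorem ι_injective : Function.Injective D.ι := Subtype.val_injective.comp D.e.symm.injective

theorem ι_mem (x : Matrix.ProjectiveSpecialLinearGroup (Fin 2) F) : D.ι x ∈ D.E0 := (D.e.symm x).2

theorem ι_e (x : ↥D.E0) : D.ι (D.e x) = x := congrArg Subtype.val (D.e.symm_apply_apply x)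

/-- The involution. -/
def v : E := D.ι D.tori.v

/-- The torus. -/
def T0 : Subgroup E := D.tori.K.map D.ι

/-- The torus extended by `Φ`. -/
def K : Subgroup E := D.T0 ⊔ D.Phi

theorem v_mem : D.v ∈ D.E0 := D.ι_mem _

theorem orderOf_v : orderOf D.v = 2 := by
  rw [v, orderOf_injective D.ι D.ι_injective, orderOf_eq_prime_iff]
  exact ⟨by rw [pow_two, D.tori.hv], D.tori.hv1⟩

theorem T0_le : D.T0 ≤ D.E0 := by
  rintro _ ⟨x, -, rfl⟩
  exact D.ι_mem x

theorem T0_le_K : D.T0 ≤ D.K := le_sup_left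
theorem Phi_le_K : D.Phi ≤ D.K := le_sup_right

theorem comm_T0 {a b : E} (ha : a ∈ D.T0) (hb : b ∈ D.T0) : a * b = b * a := by
  obtain ⟨x, hx, rfl⟩ := ha
  obtain ⟨y, hy, rfl⟩ := hb
  rw [← map_mul, ← map_mul]
  exact congrArg D.ι (congrArg Subtype.val (D.tori.comm_K ⟨x, hx⟩ ⟨y, hy⟩))

theorem card_T0 : Nat.card D.T0 = Nat.card D.tori.K :=
  (Nat.card_congr (D.tori.K.equivMapOfInjective D.ι D.ι_injective).toEquiv).symm

theorem commute_T0_v {a : E} (ha : a ∈ D.T0) : Commute D.v a := by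
  obtain ⟨x, hx, rfl⟩ := ha
  exact (show Commute D.tori.v x from Linear.Dickson.cen_comm D.tori.hv1
    (Linear.Dickson.mem_cen_self D.tori.v) (D.tori.K_le hx)).map D.ι

theorem commute_K_v {k : E} (hk : k ∈ D.K) : Commute D.v k := by
  have h : D.K ≤ centralizer ({D.v} : Set E) := sup_le
    (fun a ha => mem_centralizer_singleton_iff.2 (D.commute_T0_v ha).eq.symm)
    fun y hy => mem_centralizer_singleton_iff.2 (D.comm_v y hy).eq
  exact (mem_centralizer_singleton_iff.1 (h hk)).symm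

theorem Phi_le_normalizer : D.Phi ≤ normalizer (D.T0 : Set E) := fun y hy => by
  refine mem_normalizer_iff.2 fun a => ⟨?_, fun ha => ?_⟩
  · rintro ⟨x, hx, rfl⟩
    obtain ⟨t', ht', e⟩ := D.norm_T y hy x hx
    exact ⟨t', ht', e.symm⟩
  · obtain ⟨x, hx, e⟩ := ha
    obtain ⟨t', ht', e'⟩ := D.norm_T y⁻¹ (inv_mem hy) x hx
    refine ⟨t', ht', ?_⟩
    change D.ι t' = a
    change y⁻¹ * D.ι x * y⁻¹⁻¹ = D.ι t' at e'
    rw [← e', e]
    group

theorem disjoint_Phi {H : Subgroup E} (hH : H ≤ D.E0) {x : E} (hx : x ∈ D.Phi) (hx' : x ∈ H) :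
    x = 1 :=
  orderOf_eq_one_iff.1 (Nat.eq_one_of_dvd_coprimes D.cop (Subgroup.orderOf_dvd_natCard _ hx)
    (Subgroup.orderOf_dvd_natCard _ (hH hx')))

theorem exists_mul (x : E) : ∃ a ∈ D.E0, ∃ y ∈ D.Phi, a * y = x := by
  haveI := D.normal
  have h : x ∈ D.E0 ⊔ D.Phi := D.top ▸ mem_top x
  obtain ⟨a, ha, y, hy, e⟩ := Subgroup.mem_sup_of_normal_left.1 h
  exact ⟨a, ha, y, hy, e⟩

theorem exists_mul_K {k : E} (hk : k ∈ D.K) : ∃ a ∈ D.T0, ∃ y ∈ D.Phi, a * y = k := by
  have h : k ∈ ((D.T0 ⊔ D.Phi : Subgroup E) : Set E) := hk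
  rw [Subgroup.coe_mul_of_right_le_normalizer_left D.T0 D.Phi D.Phi_le_normalizer,
    Set.mem_mul] at h
  exact h

variable [Finite E]

theorem index_E0 : D.E0.index = Nat.card D.Phi := by
  haveI := D.normal
  have hcomp : D.E0.IsComplement' D.Phi :=
    Subgroup.isComplement'_of_disjoint_and_mul_eq_univ (Subgroup.disjoint_def.2
      fun {x} hx hx' => D.disjoint_Phi le_rfl hx' hx) (Set.eq_univ_of_forall fun x => by
        obtain ⟨a, ha, y, hy, e⟩ := D.exists_mul x
        exact Set.mem_mul.2 ⟨a, ha, y, hy, e⟩)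
  exact hcomp.symm.index_eq_card

theorem card_eq : Nat.card E = Nat.card D.Phi * Nat.card D.E0 := by
  rw [← D.index_E0, mul_comm, Subgroup.card_mul_index]

theorem odd_index : Odd D.E0.index := D.index_E0 ▸ D.odd

theorem mem_E0_of_sq {x : E} (h : x * x = 1) : x ∈ D.E0 := by
  haveI := D.normal
  have h1 : orderOf (x : E ⧸ D.E0) ∣ 2 := orderOf_dvd_of_pow_eq_one (by
    rw [← QuotientGroup.mk_pow, pow_two, h]; rfl)
  have h2 : orderOf (x : E ⧸ D.E0) ∣ D.E0.index := orderOf_dvd_natCard _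
  exact (QuotientGroup.eq_one_iff x).1 (orderOf_eq_one_iff.1
    (Nat.eq_one_of_dvd_coprimes (Nat.coprime_two_left.2 D.odd_index) h1 h2))

include D in
theorem kleinOne : KleinOne E where
  klein := by
    haveI : Fact (Nat.Prime 2) := ⟨Nat.prime_two⟩
    obtain ⟨P, hP⟩ := (H15.WardE.kleinOne D.tori).klein
    have hc : Nat.card ((P : Subgroup _).map D.ι) = 4 := by
      haveI := hP
      rw [← Nat.card_congr ((P : Subgroup _).equivMapOfInjective D.ι D.ι_injective).toEquiv]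
      exact IsKleinFour.card_four
    have hf : (Nat.card E).factorization 2 = 2 := by
      rw [D.card_eq, Nat.card_congr D.e.toEquiv, Nat.factorization_mul Nat.card_pos.ne'
        Nat.card_pos.ne', Finsupp.add_apply, factorization_card D.tori,
        Nat.factorization_eq_zero_of_not_dvd ((two_dvd_iff _).2 D.odd)]
    refine ⟨Sylow.ofCard ((P : Subgroup _).map D.ι) (by rw [hc, hf]; rfl), ?_, ?_⟩
    · rw [Sylow.coe_ofCard]; exact hc
    · rw [Sylow.coe_ofCard]
      haveI := hP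
      rw [← Monoid.exponent_eq_of_mulEquiv ((P : Subgroup _).equivMapOfInjective D.ι D.ι_injective)]
      exact IsKleinFour.exponent_two
  one s t hs ht := by
    have hs' := D.mem_E0_of_sq (x := s) (by have e := pow_orderOf_eq_one s; rwa [hs, pow_two] at e)
    have ht' := D.mem_E0_of_sq (x := t) (by have e := pow_orderOf_eq_one t; rwa [ht, pow_two] at e)
    have ho : ∀ (z : E) (hz : z ∈ D.E0), orderOf (D.e ⟨z, hz⟩) = orderOf z := fun z hz => by
      rw [MulEquiv.orderOf_eq, Subgroup.orderOf_mk]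
    have h := (H15.WardE.kleinOne D.tori).one (D.e ⟨s, hs'⟩) (D.e ⟨t, ht'⟩)
      (by rw [ho, hs]) (by rw [ho, ht])
    obtain ⟨g, hg⟩ := isConj_iff.1 h
    refine isConj_iff.2 ⟨D.ι g, ?_⟩
    have h' := congrArg D.ι hg
    simpa [D.ι_e] using h'

end EData

end Cfsg.Agent.H15.WardE
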