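import Cfsg.Agent.H15.WardE.Funs

/-!
# Values of the three functions on `K = T0 Φ`

The average `W` of `η±` over the coset of `v` is a character of `K` restricting to `T0` as its regular
character and fixed by the automorphism inverting the roots of unity of order `|Φ|` and fixing those of
order `|E0|`; so is the permutation character on the cosets of `Φ`, and the two are equal.
-/

set_option autoImplicit false
set_option linter.unusedSectionVars false
set_option linter.style.haveILetI false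

namespace Cfsg.Agent.H15.WardE

open Subgroup Cfsg Cfsg.Agent Cfsg.Agent.CharBasic Cfsg.Agent.CharInduce
open Cfsg.Agent.H84.Ward (tu)
open scoped ComplexConjugate Classical

universe u

variable {E : Type u} [Group E] [Fintype E] {F : Type} [Field F] [Fintype F] (D : EData E F)
  [Fintype (Matrix.ProjectiveSpecialLinearGroup (Fin 2) F)] {c : Fin 4 → IrrCharacter E}

local notation "P2" => Matrix.ProjectiveSpecialLinearGroup (Fin 2) F

namespace EData

theorem odd_K {k : E} (hk : k ∈ D.K) : Odd (orderOf k) := by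
  haveI : Fintype D.T0 := Fintype.ofFinite _
  obtain ⟨a, ha, y, hy, rfl⟩ := D.exists_mul_K hk
  -- the order divides `|T0| |Φ|`
  have h1 : y ^ Nat.card D.Phi = 1 :=
    congrArg Subtype.val (pow_card_eq_one' (x := (⟨y, hy⟩ : D.Phi)))
  have hmem : ∀ n : ℕ, (a * y) ^ n * (y ^ n)⁻¹ ∈ D.T0 := by
    intro n
    induction n with
    | zero => simp [one_mem]
    | succ n ih =>
      have e : (a * y) ^ (n + 1) * (y ^ (n + 1))⁻¹ =
          ((a * y) ^ n * (y ^ n)⁻¹) * (y ^ n * a * (y ^ n)⁻¹) := by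
        simp only [pow_succ]; group
      rw [e]
      exact mul_mem ih ((mem_normalizer_iff.1 (D.Phi_le_normalizer (pow_mem hy n)) a).1 ha)
  have h2 := hmem (Nat.card D.Phi)
  rw [h1, inv_one, mul_one] at h2
  have h3 : ((a * y) ^ Nat.card D.Phi) ^ Nat.card D.T0 = 1 :=
    congrArg Subtype.val (pow_card_eq_one' (x := (⟨_, h2⟩ : D.T0)))
  rw [← pow_mul] at h3
  exact Odd.of_dvd_nat (D.odd.mul (D.card_T0 ▸ D.tori.odd_K)) (orderOf_dvd_of_pow_eq_one h3)

/-- `⟨v⟩ × K → E`. -/
noncomputable def mulV : Multiplicative (ZMod 2) × D.K →* E where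
  toFun x := (if x.1 = tu then D.v else 1) * x.2
  map_one' := by
    rw [Prod.fst_one, if_neg H84.Ward.tu_ne_one.symm]; simp
  map_mul' x y := by
    have hv : D.v * D.v = 1 := by
      have := pow_orderOf_eq_one D.v; rwa [D.orderOf_v, pow_two] at this
    have hc : Commute D.v (x.2 : E) := D.commute_K_v x.2.2
    obtain ⟨a, k⟩ := x
    obtain ⟨b, l⟩ := y
    simp only [Prod.mk_mul_mk, Subgroup.coe_mul]
    rcases H84.Ward.z2_cases a with rfl | rfl <;> rcases H84.Ward.z2_cases b with rfl | rfl <;>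
      simp only [one_mul, mul_one, H84.Ward.tu_mul_self,
        if_neg H84.Ward.tu_ne_one.symm, if_true, mul_assoc]
    · rw [← mul_assoc (k : E) D.v, hc.symm.eq, mul_assoc]
    · rw [← mul_assoc (k : E) D.v, hc.symm.eq, mul_assoc, ← mul_assoc D.v D.v, hv, one_mul]

theorem exists_sigma : ∃ σ : ℂ ≃+* ℂ,
    (∀ z : ℂ, z ^ Nat.card D.E0 = 1 → σ z = z) ∧ ∀ z : ℂ, z ^ Nat.card D.Phi = 1 → σ z = z⁻¹ := by
  have hf : 0 < Nat.card D.Phi := Nat.card_pos
  have h0 : 0 < Nat.card D.E0 := Nat.card_pos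
  obtain ⟨k, hk1, hk2⟩ := Nat.chineseRemainder D.cop.symm 1 (Nat.card D.Phi - 1)
  have hkc : k.Coprime (Nat.card D.E0 * Nat.card D.Phi) := by
    refine Nat.Coprime.mul_right ?_ ?_
    · rw [Nat.coprime_iff_gcd_eq_one, hk1.gcd_eq, Nat.gcd_one_left]
    · rw [Nat.coprime_iff_gcd_eq_one, hk2.gcd_eq, ← Nat.coprime_iff_gcd_eq_one]
      exact (Nat.coprime_self_sub_left (by omega)).2 (Nat.coprime_one_left _)
  obtain ⟨σ, hσ⟩ := H43.exists_aut_pow (mul_ne_zero h0.ne' hf.ne') hkc
  refine ⟨σ, fun z hz => ?_, fun z hz => ?_⟩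
  · rw [hσ z (by rw [pow_mul, hz, one_pow]), pow_eq_pow_mod k hz, hk1, ← pow_eq_pow_mod 1 hz,
      pow_one]
  · rw [hσ z (by rw [mul_comm, pow_mul, hz, one_pow]), pow_eq_pow_mod k hz, hk2,
      ← pow_eq_pow_mod _ hz]
    refine eq_inv_of_mul_eq_one_left ?_
    rw [← pow_succ, show Nat.card D.Phi - 1 + 1 = Nat.card D.Phi by omega, hz]

end EData

namespace ESide

variable {D} (S : ESide D c)
include S

theorem apply_T0 {j : Fin 4} (h0 : j ≠ 0) (h3 : j ≠ 3) {x : P2} (hx : x ∈ D.tori.K) (hx1 : x ≠ 1) :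
    (c j : E → ℂ) (D.ι x) = -1 := by
  obtain ⟨c0, hc0, hres⟩ := S.res
  rw [hres]
  have e0 := congrFun (hc0.prin 0) x
  simp only [Pi.add_apply, Fin.castSucc_zero, hc0.one] at e0
  rw [show D.tori.prin 0 = D.tori.phi0 from if_pos rfl, D.tori.phi0_K hx hx1] at e0
  obtain ⟨i, hi, rfl⟩ : ∃ i : Fin 3, i ≠ 0 ∧ i.castSucc = j := by
    fin_cases j
    · exact absurd rfl h0
    · exact ⟨1, by decide, rfl⟩
    · exact ⟨2, by decide, rfl⟩
    · exact absurd rfl h3
  have e1 := congrFun (hc0.prin i) x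
  rw [show D.tori.prin i = D.tori.phi (decide (i = 1)) from if_neg hi, D.tori.phi_K _ hx hx1,
    Pi.add_apply] at e1
  linear_combination -e1 + e0

/-- The automorphism fixing the roots of unity of order `|E0|` fixes the block. -/
theorem gal_fixed {σ : ℂ ≃+* ℂ} (h : ∀ z : ℂ, z ^ Nat.card D.E0 = 1 → σ z = z) (j : Fin 4)
    (x : E) : σ ((c j : E → ℂ) x) = (c j : E → ℂ) x := by
  obtain ⟨M, hM⟩ := BlockBasic.exists_isPModular Nat.prime_two
  have hmem : CycOne.galIrr σ (c j) ∈ principalBlock M E := by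
    rw [mem_principal_iff hM]
    show oddSum (fun x => σ ((c j : E → ℂ) x)) ≠ 0
    rw [oddSum_gal, ← mem_principal_iff hM, S.block M hM]
    exact ⟨j, rfl⟩
  rw [S.block M hM] at hmem
  obtain ⟨i, hi⟩ := hmem
  obtain ⟨c0, hc0, hres⟩ := S.res
  have hij : i = j := hc0.inj (Subtype.ext (funext fun z => by
    rw [← hres i z, ← hres j z, hi, CycOne.galIrr_apply]
    refine H43.aut_eq_on_value (H43.gen_of_char (IsIrr.isCharacter (c j).2)) (D.ι z) σ
      (RingEquiv.refl ℂ) fun w hw => h w ?_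
    obtain ⟨k, hk⟩ := Subgroup.orderOf_dvd_natCard D.E0 (D.ι_mem z)
    rw [hk, pow_mul, hw, one_pow]))
  subst hij
  exact (congrFun (congrArg Subtype.val hi) x).symm

/-- `η±` is `-1` at the elements of `K` with no conjugate in `Φ`. -/
theorem apply_K {j : Fin 4} (h0 : j ≠ 0) (h3 : j ≠ 3) {k : E} (hk : k ∈ D.K)
    (hΦ : ∀ x ∈ D.K, x⁻¹ * k * x ∉ D.Phi) : (c j : E → ℂ) k = -1 := by
  set N := D.T0.subgroupOf D.K with hNdef
  set P := D.Phi.subgroupOf D.K with hPdef
  haveI : N.Normal := by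
    refine ⟨fun n hn g => ?_⟩
    have hK : D.K ≤ normalizer (D.T0 : Set E) := sup_le Subgroup.le_normalizer D.Phi_le_normalizer
    exact (mem_normalizer_iff.1 (hK g.2) n).1 hn
  haveI : Fintype D.K := Fintype.ofFinite _
  haveI : Fintype N := Fintype.ofFinite _
  haveI := D.cyc
  have hN : ∀ a b : N, a * b = b * a := fun a b =>
    Subtype.ext (Subtype.ext (D.comm_T0 a.2 b.2))
  let π : D.Phi →* D.K ⧸ N := (QuotientGroup.mk' N).comp (Subgroup.inclusion D.Phi_le_K)
  have hπ : Function.Surjective π := fun q => by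
    obtain ⟨⟨x, hx⟩, rfl⟩ := QuotientGroup.mk_surjective q
    obtain ⟨a, ha, y, hy, rfl⟩ := D.exists_mul_K hx
    refine ⟨⟨y, hy⟩, ?_⟩
    have e : (⟨a * y, hx⟩ : D.K) = ⟨a, D.T0_le_K ha⟩ * ⟨y, D.Phi_le_K hy⟩ := rfl
    rw [e, QuotientGroup.mk_mul, (QuotientGroup.eq_one_iff _).2 (show (⟨a, D.T0_le_K ha⟩ : D.K) ∈ N
      from ha), one_mul]
    rfl
  have hcomm : ∀ a b : D.K ⧸ N, a * b = b * a := fun a b => by
    obtain ⟨x, rfl⟩ := hπ a
    obtain ⟨y, rfl⟩ := hπ b
    haveI := IsCyclic.isMulCommutative (α := D.Phi)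
    rw [← map_mul, ← map_mul, mul_comm' x y]
  have hQ : Nat.card (D.K ⧸ N) ∣ Nat.card D.Phi := Subgroup.card_dvd_of_surjective π hπ
  have hcardN : Nat.card N = Nat.card D.T0 :=
    Nat.card_congr (Subgroup.subgroupOfEquivOfLe D.T0_le_K).toEquiv
  obtain ⟨σ, hσ0, hσf⟩ := D.exists_sigma
  -- the average over the coset of `v`
  set f : D.K → ℂ := fun x => ((c j : E → ℂ) x + 1) / 2 with hf
  have hfchar : IsCharacter D.K f := by
    refine isCharacter_of_coeff (fun a b => ?_) fun η => ?_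
    · simp only [hf, Subgroup.coe_mul, InvMemClass.coe_inv]
      rw [IsIrr.isClassFunction (c j).2 (a : E) (b : E)]
    · obtain ⟨n, hn⟩ := classInner_isChar_nat
        (CharInduce.IsChar.comp (IsIrr.isCharacter (c j).2) D.mulV)
        (CharInduce.IsChar.comp (IsIrr.isCharacter η.2) (MonoidHom.snd (Multiplicative (ZMod 2)) D.K))
      refine ⟨n, ?_⟩
      rw [← hn]
      simp only [classInner_def]
      rw [Fintype.sum_prod_type, show (Finset.univ : Finset (Multiplicative (ZMod 2))) = {1, tu} by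
        decide, Finset.sum_pair H84.Ward.tu_ne_one.symm, ← Finset.sum_add_distrib, Nat.card_prod,
        show Nat.card (Multiplicative (ZMod 2)) = 2 by simp, Nat.cast_mul, Finset.mul_sum,
        Finset.mul_sum]
      refine Finset.sum_congr rfl fun x _ => ?_
      simp only [hf, EData.mulV, MonoidHom.coe_mk, OneHom.coe_mk,
        MonoidHom.coe_snd, if_neg H84.Ward.tu_ne_one.symm, if_true, one_mul]
      rw [S.coset j (x : E) (D.odd_K x.2) (D.commute_K_v x.2), if_neg h3]
      push_cast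
      ring
  have hK3 : 4 * (Nat.card D.T0 : ℂ) = (Fintype.card F : ℂ) + 1 := by
    rw [D.card_T0]; exact_mod_cast D.tori.card_K3 D.h3
  have hf1 : f 1 = (Nat.card N : ℂ) := by
    have h := S.deg j h0 h3
    simp only [hf, OneMemClass.coe_one, hcardN]
    linear_combination h / 4 - hK3 / 4
  have hfreg : ∀ n : N, n ≠ 1 → f n = 0 := by
    intro n hn
    obtain ⟨x, hx, e⟩ := n.2
    have hx1 : x ≠ 1 := fun h => hn (Subtype.ext (Subtype.ext (by
      simp only [OneMemClass.coe_one]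
      rw [h, map_one] at e
      exact e.symm)))
    show ((c j : E → ℂ) ((n : D.K) : E) + 1) / 2 = 0
    change D.ι x = ((n : D.K) : E) at e
    rw [← e, S.apply_T0 h0 h3 hx hx1]
    ring
  have hffix : ∀ x, σ (f x) = f x := fun x => by
    simp only [hf, map_div₀, map_add, map_one, map_ofNat, S.gal_fixed hσ0]
  -- the permutation character on the cosets of `Φ`
  set R : D.K → ℂ := indFun P fun _ => (1 : ℂ) with hR
  have hRchar : IsCharacter D.K R := CharInduce.IsChar.ind P CharInduce.IsChar.one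
  have hRfix : ∀ x, σ (R x) = R x := fun x => by
    simp only [hR, indFun_apply, map_mul, map_inv₀, map_natCast, map_sum]
    refine congrArg _ (Finset.sum_congr rfl fun y _ => ?_)
    by_cases hy : y⁻¹ * x * y ∈ P
    · rw [extendByZero_of_mem _ hy, map_one]
    · rw [extendByZero_of_not_mem _ hy, map_zero]
  have hidx : P.index = Nat.card N := by
    refine Subgroup.IsComplement'.index_eq_card (Subgroup.isComplement'_of_disjoint_and_mul_eq_univ
      (Subgroup.disjoint_def.2 fun {x} hx hx' => Subtype.ext (D.disjoint_Phi D.T0_le hx' hx))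
      (Set.eq_univ_of_forall fun x => ?_))
    obtain ⟨a, ha, y, hy, e⟩ := D.exists_mul_K x.2
    exact Set.mem_mul.2 ⟨⟨a, D.T0_le_K ha⟩, ha, ⟨y, D.Phi_le_K hy⟩, hy, Subtype.ext e⟩
  have hR1 : R 1 = (Nat.card N : ℂ) := by rw [hR, indFun_one, hidx, mul_one]
  have hRreg : ∀ n : N, n ≠ 1 → R n = 0 := fun n hn =>
    indFun_eq_zero_of_forall_not_mem P _ fun x hx => hn (Subtype.ext (Subtype.ext (by
      have hmem : x⁻¹ * (n : D.K) * x ∈ N := by
        have := Subgroup.Normal.conj_mem ‹N.Normal› n n.2 x⁻¹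
        rwa [inv_inv] at this
      have h := D.disjoint_Phi D.T0_le hx hmem
      have h' : x⁻¹ * (n : D.K) * x = 1 := Subtype.ext h
      have h'' : (n : D.K) = 1 := by
        have := congrArg (fun z => x * z * x⁻¹) h'
        simpa [mul_assoc] using this
      rw [h'']; rfl)))
  have heq : f = R := eq_of_fixed N hN hcomm (Odd.of_dvd_nat D.odd hQ) hfchar hRchar hfreg hf1 hRreg
    hR1 σ (fun z hz => hσ0 z (by
      obtain ⟨d, hd⟩ := Subgroup.card_dvd_of_le D.T0_le
      rw [hd, pow_mul, ← hcardN, hz, one_pow]))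
    (fun z hz => hσf z (by obtain ⟨d, hd⟩ := hQ; rw [hd, pow_mul, hz, one_pow])) hffix hRfix
  have hz : f ⟨k, hk⟩ = 0 := by
    rw [heq]
    exact indFun_eq_zero_of_forall_not_mem P _ fun x hx => hΦ x x.2 hx
  simp only [hf] at hz
  linear_combination 2 * hz

/-- The three functions at the elements of `K` with no conjugate in `Φ`. -/
theorem theta_K (i : Fin 3) {k : E} (hk : k ∈ D.K) (hΦ : ∀ x ∈ D.K, x⁻¹ * k * x ∉ D.Phi) :
    theta c i k = if i = 0 then 0 else -2 := by
  have h3 := S.rel k (D.odd_K hk)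
  have h1 := S.apply_K (j := 1) (by decide) (by decide) hk hΦ
  have h2 := S.apply_K (j := 2) (by decide) (by decide) hk hΦ
  fin_cases i <;> simp only [theta, Pi.add_apply]
  · simp [S.one, h3, h1, h2]
  · simp [h3, h1, h2]; norm_num
  · simp [h3, h1, h2]; norm_num

theorem not_conj_of_hom (mu : D.K →* ℂˣ) (hmu : ∀ y : D.K, (y : E) ∈ D.Phi → mu y = 1) {k : D.K}
    (hne : mu k ≠ 1) : ∀ x ∈ D.K, x⁻¹ * (k : E) * x ∉ D.Phi := fun x hx h => hne (by
  have e := hmu (⟨x, hx⟩⁻¹ * k * ⟨x, hx⟩) h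
  rwa [map_mul, map_mul, map_inv, mul_comm _ (mu k), inv_mul_cancel_right] at e)

/-- The values outside the kernel of a linear character of `K` trivial on `Φ`. -/
theorem theta_K_hom (i : Fin 3) (mu : D.K →* ℂˣ) (hmu : ∀ y : D.K, (y : E) ∈ D.Phi → mu y = 1)
    {k : D.K} (hne : mu k ≠ 1) : theta c i k = if i = 0 then 0 else -2 :=
  S.theta_K i k.2 (S.not_conj_of_hom mu hmu hne)

end ESide

end Cfsg.Agent.H15.WardE
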